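import Mathlib
import Groth.Agent.MagnetHom.Coaction
import Groth.Agent.MagnetHom.Points
import Groth.Agent.FerrandPush.Affine

/-! Averaging of maps out of `Spec R[M]` which are constant modulo a square-zero ideal. -/

set_option autoImplicit false
set_option maxHeartbeats 1000000
universe u

open CategoryTheory CategoryTheory.Limits AlgebraicGeometry MonoidalCategory CartesianMonoidalCategory

namespace Groth.Agent.MagnetSmooth

open Groth.Agent.MagnetHom (GA chg)

noncomputable section

variable {R D : Type u} [CommRing R] [CommRing D] (q : R →+* D) (M : Type) [AddCommGroup M]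

/-- The constants of a group algebra. -/
abbrev ini (R : Type u) [CommRing R] (M : Type) [AddCommGroup M] : R →+* GA R M := MonoidAlgebra.singleOneRingHom

/-- The map of group algebras of `q`. -/
abbrev qM : GA R M →+* GA D M := MonoidAlgebra.mapRingHom (Multiplicative M) q

/-- Elements constant modulo the kernel of `q`. -/
def P : Subring (GA R M) := (RingHom.range (ini D M)).comap (qM q M)

theorem mem_P {w : GA R M} : w ∈ P q M ↔ qM q M w = ini D M (q (w.coeff 1)) := by
  constructor
  · rintro ⟨d, hd⟩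
    have h := congrArg (fun z : GA D M => z.coeff 1) hd
    simp at h
    rw [← hd, h]
  · intro h
    exact ⟨_, h.symm⟩

theorem ini_mem (r : R) : ini R M r ∈ P q M := ⟨q r, by simp⟩

theorem ini_injective : Function.Injective (ini R M) := fun a b h => by
  simpa using congrArg (fun z : GA R M => z.coeff 1) h

/-- The reduction of a constant element. -/
def toD : P q M →+* D where
  toFun w := q (w.1.coeff 1)
  map_one' := by simp [MonoidAlgebra.one_def]
  map_mul' a b := by
    apply ini_injective M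
    rw [map_mul, ← (mem_P q M).mp a.2, ← (mem_P q M).mp b.2, ← map_mul]
    exact ((mem_P q M).mp (a * b).2).symm
  map_zero' := by simp
  map_add' a b := by simp

theorem qM_val (w : P q M) : qM q M w.1 = ini D M (toD q M w) := (mem_P q M).mp w.2

theorem mul_eq_zero_of_map (h2 : RingHom.ker q ^ 2 = ⊥) (x y : GA R M) (hx : qM q M x = 0) (hy : qM q M y = 0) :
    x * y = 0 := by
  have hc : ∀ (z : GA R M), qM q M z = 0 → ∀ m, z.coeff m ∈ RingHom.ker q := fun z hz m => by
    simpa using congrArg (fun v : GA D M => v.coeff m) hz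
  rw [← x.sum_single, ← y.sum_single, Finsupp.sum, Finsupp.sum, Finset.sum_mul_sum]
  refine Finset.sum_eq_zero fun i _ => Finset.sum_eq_zero fun j _ => ?_
  rw [MonoidAlgebra.single_mul_single]
  have := Ideal.mul_mem_mul (hc x hx i) (hc y hy j)
  rw [← pow_two, h2, Ideal.mem_bot] at this
  rw [this, MonoidAlgebra.single_zero]

variable {q} (h2 : RingHom.ker q ^ 2 = ⊥)

/-- The invariant component, multiplicative on constant elements. -/
def eps : P q M →+* R where
  toFun w := w.1.coeff 1
  map_one' := by simp [MonoidAlgebra.one_def]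
  map_mul' a b := by
    obtain ⟨a, ha⟩ := a
    obtain ⟨b, hb⟩ := b
    have hz : ∀ w : GA R M, w ∈ P q M → qM q M (w - ini R M (w.coeff 1)) = 0 := fun w hw => by
      rw [map_sub, (mem_P q M).mp hw, sub_eq_zero]
      simp
    have h := congrArg (fun z : GA R M => z.coeff 1) (mul_eq_zero_of_map q M h2 _ _ (hz a ha) (hz b hb))
    have hi : ∀ r : R, ini R M r = MonoidAlgebra.single 1 r := fun _ => rfl
    simp only [hi, sub_mul, mul_sub, MonoidAlgebra.coeff_sub, Finsupp.sub_apply,
      MonoidAlgebra.coeff_single_one_mul, MonoidAlgebra.coeff_mul_single_one, MonoidAlgebra.single_mul_single,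
      _root_.one_mul, MonoidAlgebra.coeff_single, Finsupp.single_eq_same, MonoidAlgebra.coeff_zero,
      Finsupp.zero_apply] at h
    show (a * b).coeff 1 = a.coeff 1 * b.coeff 1
    linear_combination h
  map_zero' := by simp
  map_add' a b := by simp

variable (hq : Function.Surjective q)

include hq in
theorem qM_surjective : Function.Surjective (qM q M) := fun w => by
  induction w using MonoidAlgebra.induction_linear with
  | zero => exact ⟨0, map_zero _⟩
  | add a b ha hb =>
    obtain ⟨a, rfl⟩ := ha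
    obtain ⟨b, rfl⟩ := hb
    exact ⟨a + b, map_add _ _ _⟩
  | single m d =>
    obtain ⟨r, rfl⟩ := hq d
    exact ⟨MonoidAlgebra.single m r, by simp⟩

include hq in
theorem exists_cart : ∃ C : Groth.Agent.FerrandPush.Cart (P q M) D (GA R M) (GA D M),
    C.fst = toD q M ∧ C.snd = (P q M).subtype ∧ C.p = qM q M ∧ C.q = ini D M :=
  ⟨{ fst := toD q M, snd := (P q M).subtype, p := qM q M, q := ini D M, surj := qM_surjective M hq
     w := fun c => (qM_val q M c).symm
     ext' := fun x y _ h => Subtype.ext h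
     lift' := fun b a h => ⟨⟨a, ⟨b, h⟩⟩, ini_injective M ((qM_val q M ⟨a, ⟨b, h⟩⟩).symm.trans h.symm), rfl⟩ },
    rfl, rfl, rfl, rfl⟩

/-- `g` is the average of `ψ`, which reduces to `x`. -/
def IsAvg {Y : Scheme.{u}} (ψ : Spec (CommRingCat.of (GA R M)) ⟶ Y) (x : Spec (CommRingCat.of D) ⟶ Y)
    (g : Spec (CommRingCat.of R) ⟶ Y) : Prop :=
  ∃ l : Spec (CommRingCat.of (P q M)) ⟶ Y, Spec.map (CommRingCat.ofHom (P q M).subtype) ≫ l = ψ ∧
    Spec.map (CommRingCat.ofHom (toD q M)) ≫ l = x ∧ Spec.map (CommRingCat.ofHom (eps M h2)) ≫ l = g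

section
variable {Y Y' : Scheme.{u}}

include hq in
theorem hom_ext {l l' : Spec (CommRingCat.of (P q M)) ⟶ Y}
    (h₁ : Spec.map (CommRingCat.ofHom (P q M).subtype) ≫ l = Spec.map (CommRingCat.ofHom (P q M).subtype) ≫ l')
    (h₃ : Spec.map (CommRingCat.ofHom (toD q M)) ≫ l = Spec.map (CommRingCat.ofHom (toD q M)) ≫ l') : l = l' := by
  obtain ⟨C, e₁, e₂, e₃, e₄⟩ := exists_cart M hq
  have := C.isPushout_Spec
  simp only [Groth.Agent.FerrandPush.Cart.iA', Groth.Agent.FerrandPush.Cart.iB, e₁, e₂, e₃, e₄] at this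
  exact this.hom_ext h₁ h₃

include hq in
theorem exists_avg (ψ : Spec (CommRingCat.of (GA R M)) ⟶ Y) (x : Spec (CommRingCat.of D) ⟶ Y)
    (h : Spec.map (CommRingCat.ofHom (qM q M)) ≫ ψ = Spec.map (CommRingCat.ofHom (ini D M)) ≫ x) :
    ∃ g, IsAvg M h2 ψ x g := by
  obtain ⟨C, e₁, e₂, e₃, e₄⟩ := exists_cart M hq
  have := C.isPushout_Spec
  simp only [Groth.Agent.FerrandPush.Cart.iA', Groth.Agent.FerrandPush.Cart.iB, e₁, e₂, e₃, e₄] at this
  exact ⟨_, this.desc ψ x h, this.inl_desc _ _ _, this.inr_desc _ _ _, rfl⟩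

include hq in
theorem IsAvg.unique {ψ : Spec (CommRingCat.of (GA R M)) ⟶ Y} {x : Spec (CommRingCat.of D) ⟶ Y}
    {g g' : Spec (CommRingCat.of R) ⟶ Y} (hg : IsAvg M h2 ψ x g) (hg' : IsAvg M h2 ψ x g') : g = g' := by
  obtain ⟨l, h₁, h₃, rfl⟩ := hg
  obtain ⟨l', h₁', h₃', rfl⟩ := hg'
  rw [hom_ext M hq (h₁.trans h₁'.symm) (h₃.trans h₃'.symm)]

theorem IsAvg.comp {ψ : Spec (CommRingCat.of (GA R M)) ⟶ Y} {x : Spec (CommRingCat.of D) ⟶ Y}
    {g : Spec (CommRingCat.of R) ⟶ Y} (hg : IsAvg M h2 ψ x g) (f : Y ⟶ Y') :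
    IsAvg M h2 (ψ ≫ f) (x ≫ f) (g ≫ f) := by
  obtain ⟨l, rfl, rfl, rfl⟩ := hg
  exact ⟨l ≫ f, (Category.assoc _ _ _).symm, (Category.assoc _ _ _).symm, (Category.assoc _ _ _).symm⟩

theorem IsAvg.reduce {ψ : Spec (CommRingCat.of (GA R M)) ⟶ Y} {x : Spec (CommRingCat.of D) ⟶ Y}
    {g : Spec (CommRingCat.of R) ⟶ Y} (hg : IsAvg M h2 ψ x g) : Spec.map (CommRingCat.ofHom q) ≫ g = x := by
  obtain ⟨l, -, rfl, rfl⟩ := hg
  rw [← Category.assoc, ← Spec.map_comp]
  rfl

/-- The constants into the constant elements. -/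
def toP : R →+* P q M := (ini R M).codRestrict (P q M) (ini_mem q M)

theorem eps_toP (r : R) : eps M h2 (toP M r) = r := by simp [eps, toP]

theorem isAvg_const (g : Spec (CommRingCat.of R) ⟶ Y) :
    IsAvg M h2 (Spec.map (CommRingCat.ofHom (ini R M)) ≫ g) (Spec.map (CommRingCat.ofHom q) ≫ g) g := by
  refine ⟨Spec.map (CommRingCat.ofHom (toP M)) ≫ g, ?_, ?_, ?_⟩
  · rw [← Category.assoc, ← Spec.map_comp]; rfl
  · rw [← Category.assoc, ← Spec.map_comp]
    congr 2
    ext r
    simp [toD, toP]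
  · rw [← Category.assoc, ← Spec.map_comp,
      show CommRingCat.ofHom (toP M) ≫ CommRingCat.ofHom (eps M h2) = 𝟙 _ from
        CommRingCat.hom_ext (RingHom.ext (eps_toP M h2)), Spec.map_id]
    exact Category.id_comp _

/-- Naturality of averages. -/
theorem IsAvg.map {R₁ D₁ : Type u} [CommRing R₁] [CommRing D₁] {q₁ : R₁ →+* D₁} (h2₁ : RingHom.ker q₁ ^ 2 = ⊥)
    (α : R →+* R₁) (β : D →+* D₁) (hαβ : q₁.comp α = β.comp q) {ψ : Spec (CommRingCat.of (GA R M)) ⟶ Y}
    {x : Spec (CommRingCat.of D) ⟶ Y} {g : Spec (CommRingCat.of R) ⟶ Y} (hg : IsAvg M h2 ψ x g) :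
    IsAvg M h2₁ (Spec.map (CommRingCat.ofHom (qM α M)) ≫ ψ) (Spec.map (CommRingCat.ofHom β) ≫ x)
      (Spec.map (CommRingCat.ofHom α) ≫ g) := by
  have hmem : ∀ w : P q M, qM α M w.1 ∈ P q₁ M := fun w => by
    refine ⟨β (toD q M w), ?_⟩
    have h := congrArg (qM β M) (qM_val q M w)
    simp only [MonoidAlgebra.singleOneRingHom_apply, MonoidAlgebra.mapRingHom_single] at h
    refine Eq.trans ?_ (Eq.trans h.symm ?_)
    · simp
    · ext m
      simp only [MonoidAlgebra.coeff_mapRingHom]
      exact (RingHom.congr_fun hαβ _).symm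
  let γ : P q M →+* P q₁ M := ((qM α M).comp (P q M).subtype).codRestrict (P q₁ M) hmem
  obtain ⟨l, rfl, rfl, rfl⟩ := hg
  refine ⟨Spec.map (CommRingCat.ofHom γ) ≫ l, ?_, ?_, ?_⟩
  · simp only [← Category.assoc, ← Spec.map_comp]; rfl
  · simp only [← Category.assoc, ← Spec.map_comp]
    congr 2
    refine CommRingCat.hom_ext (RingHom.ext fun w => ?_)
    simp [toD, γ]
    exact RingHom.congr_fun hαβ _
  · simp only [← Category.assoc, ← Spec.map_comp]
    congr 2

/-- Translation by a character. -/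
def shift (χ : Multiplicative M →* R) : GA R M →+* GA R M :=
  MonoidAlgebra.liftNCRingHom (ini R M) (MonoidAlgebra.of R (Multiplicative M) * (ini R M).toMonoidHom.comp χ)
    (fun _ _ => Commute.all _ _)

theorem shift_single (χ : Multiplicative M →* R) (m : Multiplicative M) (r : R) :
    shift M χ (MonoidAlgebra.single m r) = MonoidAlgebra.single m (r * χ m) := by
  simp [shift, MonoidAlgebra.single_mul_single]

theorem coeff_shift (χ : Multiplicative M →* R) (w : GA R M) (m : Multiplicative M) :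
    (shift M χ w).coeff m = w.coeff m * χ m := by
  induction w using MonoidAlgebra.induction_linear with
  | zero => simp
  | add a b ha hb => simp only [map_add, MonoidAlgebra.coeff_add, Finsupp.add_apply, ha, hb, add_mul]
  | single k r =>
    rw [shift_single, MonoidAlgebra.coeff_single, MonoidAlgebra.coeff_single]
    by_cases h : k = m
    · subst h; simp
    · simp [Finsupp.single_eq_of_ne' h]

theorem IsAvg.shift {ψ : Spec (CommRingCat.of (GA R M)) ⟶ Y} {x : Spec (CommRingCat.of D) ⟶ Y}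
    {g : Spec (CommRingCat.of R) ⟶ Y} (hg : IsAvg M h2 ψ x g) (χ : Multiplicative M →* R) :
    IsAvg M h2 (Spec.map (CommRingCat.ofHom (shift M χ)) ≫ ψ) x g := by
  have hmem : ∀ w : P q M, MagnetSmooth.shift M χ w.1 ∈ P q M := fun w => by
    refine ⟨toD q M w, ?_⟩
    ext m
    have h := congrArg (fun z : GA D M => z.coeff m) (qM_val q M w)
    simp only [MonoidAlgebra.coeff_mapRingHom] at h ⊢
    rw [coeff_shift, map_mul, h]
    by_cases hm : 1 = m
    · subst hm; simp
    · simp [Finsupp.single_eq_of_ne' hm]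
  let γ : P q M →+* P q M := ((MagnetSmooth.shift M χ).comp (P q M).subtype).codRestrict (P q M) hmem
  obtain ⟨l, rfl, rfl, rfl⟩ := hg
  refine ⟨Spec.map (CommRingCat.ofHom γ) ≫ l, ?_, ?_, ?_⟩
  · simp only [← Category.assoc, ← Spec.map_comp]; rfl
  · simp only [← Category.assoc, ← Spec.map_comp]
    congr 2
    refine CommRingCat.hom_ext (RingHom.ext fun w => ?_)
    simp [toD, γ, coeff_shift]
  · simp only [← Category.assoc, ← Spec.map_comp]
    congr 2
    refine CommRingCat.hom_ext (RingHom.ext fun w => ?_)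
    simp [eps, γ, coeff_shift]

end

variable {S : Scheme.{u}} (str : Spec (CommRingCat.of R) ⟶ S)

include hq in
/-- Averaging commutes with acting by a point of the base. -/
theorem IsAvg.lift_comp {G X Z : Over S} (r : Over.mk str ⟶ G) (act : G ⊗ X ⟶ Z)
    {ψ : Over.mk (Spec.map (CommRingCat.ofHom (ini R M)) ≫ str) ⟶ X}
    {x : Over.mk (Spec.map (CommRingCat.ofHom q) ≫ str) ⟶ X} {g : Over.mk str ⟶ X}
    (hg : IsAvg M h2 ψ.left x.left g.left) :
    IsAvg M h2 (lift (chg R str (GA R M) (ini R M) ≫ r) ψ ≫ act).left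
      (lift (chg R str D q ≫ r) x ≫ act).left (lift r g ≫ act).left := by
  obtain ⟨l, h₁, h₃, h₄⟩ := hg
  have hl : l ≫ X.hom = Spec.map (CommRingCat.ofHom (toP (q := q) M)) ≫ str := by
    apply hom_ext M hq
    · rw [← Category.assoc, h₁, Over.w ψ, ← Category.assoc, ← Spec.map_comp]; rfl
    · rw [← Category.assoc, h₃, Over.w x, ← Category.assoc, ← Spec.map_comp]
      change Spec.map _ ≫ str = _
      congr 2
      ext r
      simp [toD, toP]
  let L : Over.mk (Spec.map (CommRingCat.ofHom (toP (q := q) M)) ≫ str) ⟶ X := Over.homMk l hl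
  let a : Over.mk (Spec.map (CommRingCat.ofHom (ini R M)) ≫ str) ⟶
      Over.mk (Spec.map (CommRingCat.ofHom (toP (q := q) M)) ≫ str) :=
    Over.homMk (Spec.map (CommRingCat.ofHom (P q M).subtype)) (by
      change Spec.map _ ≫ Spec.map _ ≫ str = _
      rw [← Category.assoc, ← Spec.map_comp]; rfl)
  let b : Over.mk (Spec.map (CommRingCat.ofHom q) ≫ str) ⟶
      Over.mk (Spec.map (CommRingCat.ofHom (toP (q := q) M)) ≫ str) :=
    Over.homMk (Spec.map (CommRingCat.ofHom (toD q M))) (by
      change Spec.map _ ≫ Spec.map _ ≫ str = Spec.map _ ≫ str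
      rw [← Category.assoc, ← Spec.map_comp]
      congr 2
      ext r
      simp [toD, toP])
  let e : Over.mk str ⟶ Over.mk (Spec.map (CommRingCat.ofHom (toP (q := q) M)) ≫ str) :=
    Over.homMk (Spec.map (CommRingCat.ofHom (eps M h2))) (by
      change Spec.map _ ≫ Spec.map _ ≫ str = str
      rw [← Category.assoc, ← Spec.map_comp,
        show CommRingCat.ofHom (toP M) ≫ CommRingCat.ofHom (eps M h2) = 𝟙 _ from
          CommRingCat.hom_ext (RingHom.ext (eps_toP M h2)), Spec.map_id]
      exact Category.id_comp _)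
  let c : Over.mk (Spec.map (CommRingCat.ofHom (toP (q := q) M)) ≫ str) ⟶ Over.mk str :=
    chg R str (P q M) (toP M)
  let L' := lift (c ≫ r) L ≫ act
  have ea : a ≫ L = ψ := Over.OverMorphism.ext h₁
  have eb : b ≫ L = x := Over.OverMorphism.ext h₃
  have ee : e ≫ L = g := Over.OverMorphism.ext h₄
  have ca : a ≫ c = chg R str (GA R M) (ini R M) := Over.OverMorphism.ext (by
    change Spec.map _ ≫ Spec.map _ = Spec.map _
    rw [← Spec.map_comp]; rfl)
  have cb : b ≫ c = chg R str D q := Over.OverMorphism.ext (by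
    change Spec.map _ ≫ Spec.map _ = Spec.map _
    rw [← Spec.map_comp]
    congr 1
    ext r
    simp [toD, toP])
  have ce : e ≫ c = 𝟙 _ := Over.OverMorphism.ext (by
    change Spec.map _ ≫ Spec.map _ = 𝟙 _
    rw [← Spec.map_comp,
      show CommRingCat.ofHom (toP M) ≫ CommRingCat.ofHom (eps M h2) = 𝟙 _ from
        CommRingCat.hom_ext (RingHom.ext (eps_toP M h2)), Spec.map_id])
  refine ⟨L'.left, ?_, ?_, ?_⟩
  · refine Eq.trans (show _ = (a ≫ L').left from rfl) ?_
    rw [comp_lift_assoc, ← Category.assoc a c r, ca, ea]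
  · refine Eq.trans (show _ = (b ≫ L').left from rfl) ?_
    rw [comp_lift_assoc, ← Category.assoc b c r, cb, eb]
  · refine Eq.trans (show _ = (e ≫ L').left from rfl) ?_
    rw [comp_lift_assoc, ← Category.assoc e c r, ce, ee, Category.id_comp]

end

end Groth.Agent.MagnetSmooth
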