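import Mathlib
import Groth.Agent.MagnetSmooth.Avg
import Groth.Agent.MagnetHom.Coaction
import Groth.Agent.SmoothLiftLib.Nbhd

/-! Equivariant lifting for smooth equivariant morphisms. -/

set_option autoImplicit false
set_option linter.style.haveILetI false
set_option backward.isDefEq.respectTransparency.types false
set_option maxHeartbeats 2000000
set_option synthInstance.maxHeartbeats 400000
universe u

open CategoryTheory CategoryTheory.Limits MonoidalCategory CartesianMonoidalCategory MonObj AlgebraicGeometry Opposite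

namespace Groth.Agent.MagnetSmooth

open Groth.Agent.MagnetHom (GA chg pt gaff gaff_hom_snd gaff_hom_pA pt_left_fst pA isPullback_pA exists_eq_pt pt_mul chg_pt)

noncomputable section

attribute [local instance 50] Groth.Agent.MagnetHom.algZ
attribute [local instance 10000] Algebra.toModule

variable {S : Scheme.{u}}

theorem pt_natural {C C' : Type u} [CommRing C] [CommRing C'] {N : Type} [AddCommMonoid N]
    {str : Spec (CommRingCat.of C) ⟶ S} {str' : Spec (CommRingCat.of C') ⟶ S} (c : Over.mk str' ⟶ Over.mk str)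
    (φ : C →+* C') (hc : c.left = Spec.map (CommRingCat.ofHom φ)) (p : Multiplicative N →* C) :
    c ≫ pt C str p = pt C' str' (φ.toMonoidHom.comp p) := by
  obtain rfl : str' = Spec.map (CommRingCat.ofHom φ) ≫ str := (Over.w c).symm.trans (congrArg (· ≫ str) hc)
  obtain rfl : c = chg C str C' φ := Over.OverMorphism.ext hc
  exact chg_pt C str C' φ p

theorem pt_one' {C : Type u} [CommRing C] {N : Type} [AddCommMonoid N] (str : Spec (CommRingCat.of C) ⟶ S) :
    pt C str (1 : Multiplicative N →* C) = 1 := by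
  obtain ⟨p, hp⟩ := exists_eq_pt C str (1 : Over.mk str ⟶ Magnet.AMonS S N)
  rw [← MulOneClass.mul_one (pt C str (1 : Multiplicative N →* C)), hp, ← pt_mul, MulOneClass.one_mul]

theorem lift_pt_of (C : Type u) [CommRing C] (str : Spec (CommRingCat.of C) ⟶ S) (N : Type) [AddCommMonoid N] :
    (lift (pt (GA C N) (Spec.map (CommRingCat.ofHom MonoidAlgebra.singleOneRingHom) ≫ str)
        (MonoidAlgebra.of C (Multiplicative N)))
      (chg C str (GA C N) MonoidAlgebra.singleOneRingHom)).left = (gaff C str N).hom := by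
  apply (isPullback_pA N (Over.mk str)).hom_ext
  · rw [gaff_hom_pA, pA, ← Category.assoc, ← Over.comp_left, lift_fst, pt_left_fst]
    congr 1
    apply CommRingCat.hom_ext
    refine MonoidAlgebra.ringHom_ext (fun r => ?_) (fun n => ?_)
    · exact RingHom.congr_fun (Groth.Agent.MagnetHom.ringHom_Z0_ext
        ((MonoidAlgebra.lift Groth.Agent.MagnetHom.Z0.{u} (GA C N) (Multiplicative N)
          (MonoidAlgebra.of C (Multiplicative N))).toRingHom.comp MonoidAlgebra.singleOneRingHom)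
        ((MonoidAlgebra.mapRingHom (Multiplicative N) (algebraMap Groth.Agent.MagnetHom.Z0.{u} C)).comp
          MonoidAlgebra.singleOneRingHom)) r
    · simp
  · rw [← Over.comp_left, lift_snd, gaff_hom_snd]
    rfl

theorem map_ini {R D : Type u} [CommRing R] [CommRing D] (G : Type) [CommMonoid G] (q : R →+* D) :
    CommRingCat.ofHom (MonoidAlgebra.singleOneRingHom : R →+* MonoidAlgebra R G) ≫
        CommRingCat.ofHom (MonoidAlgebra.mapRingHom G q) =
      CommRingCat.ofHom q ≫ CommRingCat.ofHom (MonoidAlgebra.singleOneRingHom : D →+* MonoidAlgebra D G) :=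
  CommRingCat.hom_ext (RingHom.ext fun r => MonoidAlgebra.mapRingHom_single _ _ _)

theorem ker_map_pow_two {R D : Type u} [CommRing R] [CommRing D] {q : R →+* D} (h2 : RingHom.ker q ^ 2 = ⊥)
    (G : Type) [CommMonoid G] : RingHom.ker (MonoidAlgebra.mapRingHom G q) ^ 2 = ⊥ := by
  rw [eq_bot_iff, pow_two, Ideal.mul_le]
  intro x hx y hy
  have hc : ∀ (z : MonoidAlgebra R G), MonoidAlgebra.mapRingHom G q z = 0 → ∀ m, z.coeff m ∈ RingHom.ker q :=
    fun z hz m => by simpa using congrArg (fun v : MonoidAlgebra D G => v.coeff m) hz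
  rw [Ideal.mem_bot, ← x.sum_single, ← y.sum_single, Finsupp.sum, Finsupp.sum, Finset.sum_mul_sum]
  refine Finset.sum_eq_zero fun i _ => Finset.sum_eq_zero fun j _ => ?_
  rw [MonoidAlgebra.single_mul_single]
  have := Ideal.mul_mem_mul (hc x hx i) (hc y hy j)
  rw [← pow_two, h2, Ideal.mem_bot] at this
  rw [this, MonoidAlgebra.single_zero]

theorem exists_lift_ker {X Y : Scheme.{u}} (f : X ⟶ Y) [Smooth f] {R D : Type u} [CommRing R] [CommRing D]
    (q : R →+* D) (hq : Function.Surjective q) (h2 : RingHom.ker q ^ 2 = ⊥) (a : Spec (CommRingCat.of D) ⟶ X)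
    (b : Spec (CommRingCat.of R) ⟶ Y) (w : Spec.map (CommRingCat.ofHom q) ≫ b = a ≫ f) :
    ∃ l, Spec.map (CommRingCat.ofHom q) ≫ l = a ∧ l ≫ f = b := by
  let e := RingHom.quotientKerEquivOfSurjective hq
  have he : e.symm.toRingHom.comp q = Ideal.Quotient.mk (RingHom.ker q) := RingHom.ext fun r =>
    e.symm_apply_eq.mpr rfl
  have he' : e.toRingHom.comp (Ideal.Quotient.mk (RingHom.ker q)) = q := RingHom.ext fun r => rfl
  obtain ⟨l, hl₁, hl₂⟩ := Groth.Agent.SmoothLiftLib.isFormallySmoothHom_of_smooth f R (RingHom.ker q) h2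
    (Spec.map (CommRingCat.ofHom e.symm.toRingHom) ≫ a) b (by
      rw [Category.assoc, ← w, ← Category.assoc, ← Spec.map_comp, ← CommRingCat.ofHom_comp, he])
  refine ⟨l, ?_, hl₂⟩
  rw [← he', CommRingCat.ofHom_comp, Spec.map_comp, Category.assoc, hl₁, ← Category.assoc, ← Spec.map_comp,
    ← CommRingCat.ofHom_comp, show e.toRingHom.comp e.symm.toRingHom = RingHom.id _ from RingHom.ext e.apply_symm_apply,
    CommRingCat.ofHom_id, Spec.map_id]
  exact Category.id_comp _

section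
variable {M : Type} [AddCommGroup M] {X Z Z₀ : Over S}



/-- The character `m ↦ -m`. -/
abbrev negOf (R : Type u) [CommRing R] (M : Type) [AddCommGroup M] : Multiplicative M →* GA R M :=
  (MonoidAlgebra.of R (Multiplicative M)).comp (AddMonoidHom.toMultiplicative (-AddMonoidHom.id M))

theorem negOf_mul (R : Type u) [CommRing R] : negOf R M * MonoidAlgebra.of R (Multiplicative M) = 1 := by
  refine MonoidHom.ext fun m => ?_
  simp only [negOf, MonoidHom.mul_apply, MonoidHom.coe_comp, Function.comp_apply, MonoidHom.one_apply, ← map_mul]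
  rw [show AddMonoidHom.toMultiplicative (-AddMonoidHom.id M) m * m = 1 from
    Multiplicative.toAdd.injective (neg_add_cancel (Multiplicative.toAdd m)), map_one]

variable (ρ : Magnet.MonAct (Magnet.AMonS S M) Z) (a : Magnet.MonAct (Magnet.AMonS S M) X) (g₁ : Z ⟶ X) {R : Type u} [CommRing R]
  {str : Spec (CommRingCat.of R) ⟶ S}

/-- The orbit deviation `s ↦ s⁻¹ g₁(s b)` of a map at a point. -/
def psi (b : Over.mk str ⟶ Z) : Over.mk (Spec.map (CommRingCat.ofHom (ini R M)) ≫ str) ⟶ X :=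
  lift (pt (GA R M) _ (negOf R M))
    (lift (pt (GA R M) _ (MonoidAlgebra.of R (Multiplicative M))) (chg R str (GA R M) (ini R M) ≫ b) ≫ ρ.act ≫ g₁) ≫ a.act

theorem inv_act_cancel {T : Over S} (si s : T ⟶ Magnet.AMonS S M) (h : si * s = 1) (x : T ⟶ X) :
    lift si (lift s x ≫ a.act) ≫ a.act = x := by
  rw [← a.lift_mul_act, h, a.lift_one_act]

theorem pt_negOf_mul : pt (GA R M) (Spec.map (CommRingCat.ofHom (ini R M)) ≫ str) (negOf R M) *
    pt (GA R M) (Spec.map (CommRingCat.ofHom (ini R M)) ≫ str) (MonoidAlgebra.of R (Multiplicative M)) = 1 := by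
  rw [← pt_mul, negOf_mul, pt_one']

theorem psi_natural {R₁ : Type u} [CommRing R₁] {str₁ : Spec (CommRingCat.of R₁) ⟶ S} (b : Over.mk str ⟶ Z)
    (c : Over.mk str₁ ⟶ Over.mk str) (α : R →+* R₁) (hc : c.left = Spec.map (CommRingCat.ofHom α))
    (d : Over.mk (Spec.map (CommRingCat.ofHom (ini R₁ M)) ≫ str₁) ⟶
      Over.mk (Spec.map (CommRingCat.ofHom (ini R M)) ≫ str))
    (hd : d.left = Spec.map (CommRingCat.ofHom (qM α M))) :
    d ≫ psi ρ a g₁ b = psi ρ a g₁ (c ≫ b) := by
  have h1 : ∀ m, qM α M (MonoidAlgebra.of R (Multiplicative M) m) = MonoidAlgebra.of R₁ (Multiplicative M) m :=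
    fun m => by simp
  have h2 : d ≫ chg R str (GA R M) (ini R M) = chg R₁ str₁ (GA R₁ M) (ini R₁ M) ≫ c := by
    apply Over.OverMorphism.ext
    rw [Over.comp_left, Over.comp_left, hc, hd]
    change Spec.map _ ≫ Spec.map _ = Spec.map _ ≫ Spec.map _
    rw [← Spec.map_comp, ← Spec.map_comp]
    congr 1
    ext r
    simp
  rw [psi, psi, comp_lift_assoc, comp_lift_assoc, pt_natural d (qM α M) hd, pt_natural d (qM α M) hd,
    ← Category.assoc d, h2, Category.assoc]
  rw [show (qM α M).toMonoidHom.comp (MonoidAlgebra.of R (Multiplicative M)) =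
      MonoidAlgebra.of R₁ (Multiplicative M) from MonoidHom.ext h1,
    show (qM α M).toMonoidHom.comp (negOf R M) = negOf R₁ M from MonoidHom.ext fun m => h1 _]

theorem psi_comp {Y : Over S} (aY : Magnet.MonAct (Magnet.AMonS S M) Y) {f : X ⟶ Y} (hf : Magnet.MonAct.IsEquivariant a aY f)
    {y : Z ⟶ Y} (hy : Magnet.MonAct.IsEquivariant ρ aY y) (hg : g₁ ≫ f = y) (b : Over.mk str ⟶ Z) :
    psi ρ a g₁ b ≫ f = chg R str (GA R M) (ini R M) ≫ b ≫ y := by
  rw [psi, Category.assoc, (Magnet.MonAct.isEquivariant_iff _ _ _).mp hf, Category.assoc, Category.assoc, hg,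
    (Magnet.MonAct.isEquivariant_iff _ _ _).mp hy, inv_act_cancel aY _ _ pt_negOf_mul, Category.assoc]

theorem psi_agree {D : Type u} [CommRing D] (q : R →+* D) (m : Magnet.AMonS S M ⊗ Z₀ ⟶ Z₀) (x : Z₀ ⟶ X)
    (hx : m ≫ x = (Magnet.AMonS S M ◁ x) ≫ a.act) (u : Z₀ ⟶ Z) (hu : m ≫ u = (Magnet.AMonS S M ◁ u) ≫ ρ.act)
    (hug : u ≫ g₁ = x) (b : Over.mk str ⟶ Z) (b₀ : Over.mk (Spec.map (CommRingCat.ofHom q) ≫ str) ⟶ Z₀)
    (hb : chg R str D q ≫ b = b₀ ≫ u) :
    Spec.map (CommRingCat.ofHom (qM q M)) ≫ (psi ρ a g₁ b).left =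
      Spec.map (CommRingCat.ofHom (ini D M)) ≫ (b₀ ≫ x).left := by
  let U := Over.mk (Spec.map (CommRingCat.ofHom (ini R M)) ≫ str)
  let c₁ : Over.mk (Spec.map (CommRingCat.ofHom (qM q M)) ≫ Spec.map (CommRingCat.ofHom (ini R M)) ≫ str) ⟶ U :=
    chg (GA R M) _ (GA D M) (qM q M)
  let c₀ : Over.mk (Spec.map (CommRingCat.ofHom (qM q M)) ≫ Spec.map (CommRingCat.ofHom (ini R M)) ≫ str) ⟶
      Over.mk (Spec.map (CommRingCat.ofHom q) ≫ str) := Over.homMk (Spec.map (CommRingCat.ofHom (ini D M))) (by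
    change Spec.map _ ≫ Spec.map _ ≫ str = Spec.map _ ≫ Spec.map _ ≫ str
    simp only [← Category.assoc, ← Spec.map_comp]
    congr 2
    ext r
    simp)
  have hc : c₁ ≫ chg R str (GA R M) (ini R M) = c₀ ≫ chg R str D q := Over.OverMorphism.ext (by
    change Spec.map _ ≫ Spec.map _ = Spec.map _ ≫ Spec.map _
    rw [← Spec.map_comp, ← Spec.map_comp]
    congr 1
    ext r
    simp)
  have key : c₁ ≫ psi ρ a g₁ b = c₀ ≫ b₀ ≫ x := by
    have hinv : (c₁ ≫ pt (GA R M) _ (negOf R M)) * (c₁ ≫ pt (GA R M) _ (MonoidAlgebra.of R (Multiplicative M))) = 1 := by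
      rw [← MonObj.comp_mul, pt_negOf_mul, MonObj.comp_one]
    rw [psi, comp_lift_assoc, comp_lift_assoc, ← Category.assoc c₁ (chg R str (GA R M) (ini R M)), hc, Category.assoc,
      hb, ← Category.assoc c₀ b₀,
      ← lift_whiskerLeft_assoc _ (c₀ ≫ b₀) u, ← reassoc_of% hu, hug, hx, lift_whiskerLeft_assoc,
      inv_act_cancel a _ _ hinv, Category.assoc]
  exact congrArg CommaMorphism.left key

theorem psi_translate (b : Over.mk str ⟶ Z) (r : Over.mk str ⟶ Magnet.AMonS S M) (χ : Multiplicative M →* R)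
    (hχ : r = pt R str χ) (c : Over.mk (Spec.map (CommRingCat.ofHom (ini R M)) ≫ str) ⟶
      Over.mk (Spec.map (CommRingCat.ofHom (ini R M)) ≫ str))
    (hc : c.left = Spec.map (CommRingCat.ofHom (shift M χ))) :
    c ≫ lift (chg R str (GA R M) (ini R M) ≫ r) (psi ρ a g₁ b) ≫ a.act =
      psi ρ a g₁ (lift r b ≫ ρ.act) := by
  subst hχ
  let pr := chg R str (GA R M) (ini R M)
  have hpr : c ≫ pr = pr := Over.OverMorphism.ext (by
    rw [Over.comp_left, hc]
    change Spec.map _ ≫ Spec.map _ = Spec.map _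
    rw [← Spec.map_comp]
    congr 1
    ext r
    simp [shift_single])
  let sc : Multiplicative M →* GA R M := (ini R M).toMonoidHom.comp χ
  let sn : Multiplicative M →* GA R M := sc.comp (AddMonoidHom.toMultiplicative (-AddMonoidHom.id M))
  have hsc : pr ≫ pt R str χ = pt (GA R M) _ sc := pt_natural pr _ rfl χ
  have e1 : c ≫ pt (GA R M) _ (MonoidAlgebra.of R (Multiplicative M)) =
      pt (GA R M) _ (MonoidAlgebra.of R (Multiplicative M) * sc) := by
    rw [pt_natural c _ hc]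
    congr 1
    refine MonoidHom.ext fun m => ?_
    simp [sc, shift_single, MonoidAlgebra.single_mul_single]
  have e2 : c ≫ pt (GA R M) _ (negOf R M) = pt (GA R M) _ (negOf R M * sn) := by
    rw [pt_natural c _ hc]
    congr 1
    refine MonoidHom.ext fun m => ?_
    simp [sn, sc, negOf, shift_single, MonoidAlgebra.single_mul_single]
  have hcancel : sc * (negOf R M * sn) = negOf R M := by
    rw [mul_left_comm]
    conv_rhs => rw [← MulOneClass.mul_one (negOf R M)]
    congr 1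
    refine MonoidHom.ext fun m => ?_
    simp only [sn, MonoidHom.mul_apply, MonoidHom.coe_comp, Function.comp_apply, MonoidHom.one_apply, ← map_mul]
    rw [show m * AddMonoidHom.toMultiplicative (-AddMonoidHom.id M) m = 1 from
      Multiplicative.toAdd.injective (add_neg_cancel (Multiplicative.toAdd m)), map_one]
  rw [psi, psi, comp_lift_assoc, ← Category.assoc c pr, hpr, comp_lift_assoc, comp_lift_assoc, comp_lift_assoc,
    ← Category.assoc c pr b, hpr, e1, e2, ← a.lift_mul_act, hsc, ← pt_mul, hcancel, pt_mul, ρ.lift_mul_act_assoc]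

end

section
variable {M : Type} [AddCommGroup M] {X Y : Over S}

/-- Existence of equivariant lifts from a thickening of an affine scheme with an action. -/
theorem exists_eqv_lift_gen {Z Z₀ : Over S} (ρ : Magnet.MonAct (Magnet.AMonS S M) Z)
    (aX : Magnet.MonAct (Magnet.AMonS S M) X) (aY : Magnet.MonAct (Magnet.AMonS S M) Y) (f : X ⟶ Y)
    (hf : Magnet.MonAct.IsEquivariant aX aY f) [Smooth f.left] {R D : Type u} [CommRing R] [CommRing D] (q : R →+* D)
    (hq : Function.Surjective q) (h2 : RingHom.ker q ^ 2 = ⊥) {strR : Spec (CommRingCat.of R) ⟶ S}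
    (e : Over.mk strR ⟶ Z) [IsIso e] (e₀ : Over.mk (Spec.map (CommRingCat.ofHom q) ≫ strR) ⟶ Z₀) [IsIso e₀]
    (u : Z₀ ⟶ Z) (hee : chg R strR D q ≫ e = e₀ ≫ u) (m : Magnet.AMonS S M ⊗ Z₀ ⟶ Z₀)
    (hu : m ≫ u = (Magnet.AMonS S M ◁ u) ≫ ρ.act) (x : Z₀ ⟶ X)
    (hx : m ≫ x = (Magnet.AMonS S M ◁ x) ≫ aX.act) (y : Z ⟶ Y) (hy : Magnet.MonAct.IsEquivariant ρ aY y)
    (h : x ≫ f = u ≫ y) :
    ∃ g : Z ⟶ X, Magnet.MonAct.IsEquivariant ρ aX g ∧ u ≫ g = x ∧ g ≫ f = y := by
  -- a lift, disregarding the action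
  obtain ⟨l₁, hl₁, hl₁'⟩ := exists_lift_ker f.left q hq h2 (e₀ ≫ x).left (e ≫ y).left (by
    have h' : chg R strR D q ≫ e ≫ y = (e₀ ≫ x) ≫ f := by
      rw [reassoc_of% hee, Category.assoc, h]
    exact congrArg CommaMorphism.left h')
  let g₀ : Over.mk strR ⟶ X := Over.homMk l₁ (by rw [← Over.w f, ← Category.assoc, hl₁', Over.w])
  let g₁ := inv e ≫ g₀
  have hg₁f : g₁ ≫ f = y := by
    rw [Category.assoc, IsIso.inv_comp_eq]
    exact Over.OverMorphism.ext hl₁'
  have hug : u ≫ g₁ = x := by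
    rw [← cancel_epi e₀, ← reassoc_of% hee, IsIso.hom_inv_id_assoc]
    exact Over.OverMorphism.ext hl₁
  -- its average
  obtain ⟨g', hg'⟩ := exists_avg M h2 hq (psi ρ aX g₁ e).left (e₀ ≫ x).left
    (psi_agree ρ aX g₁ q m x hx u hu hug e e₀ hee)
  have havgf : g' ≫ f.left = (e ≫ y).left := by
    refine (hg'.comp M h2 f.left).unique M h2 hq ?_
    have h' := isAvg_const M h2 (e ≫ y).left
    have h'' : (psi ρ aX g₁ e).left ≫ f.left = Spec.map (CommRingCat.ofHom (ini R M)) ≫ (e ≫ y).left :=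
      congrArg CommaMorphism.left (psi_comp ρ aX g₁ aY hf hy hg₁f e)
    have h''' : (e₀ ≫ x).left ≫ f.left = Spec.map (CommRingCat.ofHom q) ≫ (e ≫ y).left := by
      rw [← hl₁, Category.assoc, hl₁']
    rw [h'', h''']
    exact h'
  let gR : Over.mk strR ⟶ X := Over.homMk g' (by rw [← Over.w f, ← Category.assoc, havgf, Over.w])
  let g := inv e ≫ gR
  have nat : ∀ {R₁ D₁ : Type u} [CommRing R₁] [CommRing D₁] (q₁ : R₁ →+* D₁) (h2₁ : RingHom.ker q₁ ^ 2 = ⊥)
      {str₁ : Spec (CommRingCat.of R₁) ⟶ S} (b : Over.mk str₁ ⟶ Z)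
      (b₀ : Over.mk (Spec.map (CommRingCat.ofHom q₁) ≫ str₁) ⟶ Z₀),
      chg R₁ str₁ D₁ q₁ ≫ b = b₀ ≫ u →
      IsAvg M h2₁ (psi ρ aX g₁ b).left (b₀ ≫ x).left (b ≫ g).left := by
    intro R₁ D₁ _ _ q₁ h2₁ str₁ b b₀ hb
    let α := (Spec.preimage (b ≫ inv e).left).hom
    let β := (Spec.preimage (b₀ ≫ inv e₀).left).hom
    have hα : (b ≫ inv e).left = Spec.map (CommRingCat.ofHom α) := by simp [α]
    have hβ : (b₀ ≫ inv e₀).left = Spec.map (CommRingCat.ofHom β) := by simp [β]
    have hcomm : chg R₁ str₁ D₁ q₁ ≫ b ≫ inv e = (b₀ ≫ inv e₀) ≫ chg R strR D q := by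
      rw [← cancel_mono e, Category.assoc, Category.assoc, IsIso.inv_hom_id, Category.comp_id, hb, Category.assoc,
        Category.assoc, hee, IsIso.inv_hom_id_assoc]
    have hαβ : q₁.comp α = β.comp q := by
      have h' := congrArg CommaMorphism.left hcomm
      simp only [Over.comp_left] at h'
      change Spec.map (CommRingCat.ofHom q₁) ≫ (b ≫ inv e).left = (b₀ ≫ inv e₀).left ≫ Spec.map (CommRingCat.ofHom q) at h'
      rw [hα, hβ, ← Spec.map_comp, ← Spec.map_comp] at h'
      exact congrArg CommRingCat.Hom.hom (Spec.map_injective h')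
    let d : Over.mk (Spec.map (CommRingCat.ofHom (ini R₁ M)) ≫ str₁) ⟶
        Over.mk (Spec.map (CommRingCat.ofHom (ini R M)) ≫ strR) :=
      Over.homMk (Spec.map (CommRingCat.ofHom (qM α M))) (by
        have hw : Spec.map (CommRingCat.ofHom α) ≫ strR = str₁ := by rw [← hα]; exact Over.w (b ≫ inv e)
        change Spec.map _ ≫ Spec.map _ ≫ strR = Spec.map _ ≫ str₁
        rw [← hw]
        simp only [← Category.assoc, ← Spec.map_comp]
        exact congrArg (fun k => Spec.map k ≫ strR) (map_ini _ α))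
    have h' := hg'.map M h2 h2₁ α β hαβ
    have hψ : Spec.map (CommRingCat.ofHom (qM α M)) ≫ (psi ρ aX g₁ e).left = (psi ρ aX g₁ b).left := by
      have := congrArg CommaMorphism.left (psi_natural ρ aX g₁ e (b ≫ inv e) α hα d rfl)
      rw [Category.assoc, IsIso.inv_hom_id, Category.comp_id] at this
      exact this
    have hx' : Spec.map (CommRingCat.ofHom β) ≫ (e₀ ≫ x).left = (b₀ ≫ x).left := by
      rw [← hβ, ← Over.comp_left, Category.assoc, IsIso.inv_hom_id_assoc]
    have hg'' : Spec.map (CommRingCat.ofHom α) ≫ g' = (b ≫ g).left := by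
      rw [← hα]
      change _ = (b ≫ inv e ≫ gR).left
      rw [← Category.assoc b]
      rfl
    rwa [hψ, hx', hg''] at h'
  refine ⟨g, ?_, ?_, ?_⟩
  · -- equivariance
    have translate : ∀ {R₁ D₁ : Type u} [CommRing R₁] [CommRing D₁] (q₁ : R₁ →+* D₁) (hq₁ : Function.Surjective q₁)
        (h2₁ : RingHom.ker q₁ ^ 2 = ⊥) {str₁ : Spec (CommRingCat.of R₁) ⟶ S}
        (b : Over.mk str₁ ⟶ Z)
        (b₀ : Over.mk (Spec.map (CommRingCat.ofHom q₁) ≫ str₁) ⟶ Z₀)
        (r : Over.mk str₁ ⟶ Magnet.AMonS S M),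
        chg R₁ str₁ D₁ q₁ ≫ b = b₀ ≫ u → lift r b ≫ ρ.act ≫ g = lift r (b ≫ g) ≫ aX.act := by
      intro R₁ D₁ _ _ q₁ hq₁ h2₁ str₁ b b₀ r hb
      obtain ⟨χ, hχ⟩ := exists_eq_pt R₁ str₁ r
      have h₁ := nat q₁ h2₁ (lift r b ≫ ρ.act) (lift (chg R₁ str₁ D₁ q₁ ≫ r) b₀ ≫ m) (by
        rw [comp_lift_assoc, hb, Category.assoc, hu, lift_whiskerLeft_assoc])
      let c : Over.mk (Spec.map (CommRingCat.ofHom (ini R₁ M)) ≫ str₁) ⟶
          Over.mk (Spec.map (CommRingCat.ofHom (ini R₁ M)) ≫ str₁) :=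
        Over.homMk (Spec.map (CommRingCat.ofHom (shift M χ))) (by
          change Spec.map _ ≫ Spec.map _ ≫ str₁ = Spec.map _ ≫ str₁
          simp only [← Category.assoc, ← Spec.map_comp]
          congr 2
          ext r
          simp [shift_single])
      have h₃ := ((nat q₁ h2₁ b b₀ hb).lift_comp M h2₁ hq₁ str₁ r aX.act).shift M h2₁ χ
      have hψ : Spec.map (CommRingCat.ofHom (shift M χ)) ≫
          (lift (chg R₁ str₁ (GA R₁ M) (ini R₁ M) ≫ r) (psi ρ aX g₁ b) ≫ aX.act).left =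
            (psi ρ aX g₁ (lift r b ≫ ρ.act)).left :=
        congrArg CommaMorphism.left (psi_translate ρ aX g₁ b r χ hχ c rfl)
      have hx' : (lift (chg R₁ str₁ D₁ q₁ ≫ r) (b₀ ≫ x) ≫ aX.act).left =
          ((lift (chg R₁ str₁ D₁ q₁ ≫ r) b₀ ≫ m) ≫ x).left := by
        rw [Category.assoc, hx, lift_whiskerLeft_assoc]
      rw [hψ, hx'] at h₃
      have := Over.OverMorphism.ext (h₁.unique M h2₁ hq₁ h₃)
      rwa [Category.assoc] at this
    let strM := Spec.map (CommRingCat.ofHom (ini R M)) ≫ strR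
    let b : Over.mk strM ⟶ Z := chg R strR (GA R M) (ini R M) ≫ e
    let s : Over.mk strM ⟶ Magnet.AMonS S M := pt (GA R M) strM (MonoidAlgebra.of R (Multiplicative M))
    let kk : Over.mk strM ⟶ Magnet.AMonS S M ⊗ Over.mk strR :=
      lift s (chg R strR (GA R M) (ini R M))
    haveI : IsIso kk.left := by rw [show kk.left = _ from lift_pt_of R strR M]; infer_instance
    haveI : IsIso ((Over.forget S).map kk) := ‹IsIso kk.left›
    haveI : IsIso kk := isIso_of_reflects_iso kk (Over.forget S)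
    have hb : lift s b = kk ≫ (Magnet.AMonS S M ◁ e) := (lift_whiskerLeft _ _ _).symm
    haveI : IsIso (lift s b) := by rw [hb]; infer_instance
    show ρ.act ≫ g = (Magnet.AMonS S M ◁ g) ≫ aX.act
    rw [← cancel_epi (lift s b), lift_whiskerLeft_assoc]
    let d₀ : Over.mk (Spec.map (CommRingCat.ofHom (qM q M)) ≫ strM) ⟶
        Over.mk (Spec.map (CommRingCat.ofHom q) ≫ strR) :=
      Over.homMk (Spec.map (CommRingCat.ofHom (ini D M))) (by
        change Spec.map _ ≫ Spec.map _ ≫ strR = Spec.map _ ≫ Spec.map _ ≫ strR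
        simp only [← Category.assoc, ← Spec.map_comp]
        exact congrArg (fun k => Spec.map k ≫ strR) (map_ini _ q).symm)
    refine translate (qM q M) (qM_surjective M hq) (ker_map_pow_two h2 _) b (d₀ ≫ e₀) s ?_
    refine Eq.trans ?_ ((congrArg (d₀ ≫ ·) hee).trans (Category.assoc _ _ _).symm)
    refine (Category.assoc _ _ _).symm.trans (Eq.trans ?_ (Category.assoc _ _ _))
    refine congrArg (· ≫ e) ?_
    apply Over.OverMorphism.ext
    change Spec.map _ ≫ Spec.map _ = Spec.map _ ≫ Spec.map _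
    rw [← Spec.map_comp, ← Spec.map_comp]
    exact congrArg Spec.map (map_ini _ q)
  · show u ≫ g = x
    rw [← cancel_epi e₀, ← reassoc_of% hee, IsIso.hom_inv_id_assoc]
    exact Over.OverMorphism.ext (hg'.reduce M h2)
  · show g ≫ f = y
    rw [Category.assoc, IsIso.inv_comp_eq]
    exact Over.OverMorphism.ext havgf

/-- Existence of equivariant lifts. -/
theorem exists_eqv_lift (N : AddSubmonoid M) (aX : Magnet.MonAct (Magnet.AMonS S M) X)
    (aY : Magnet.MonAct (Magnet.AMonS S M) Y) (f : X ⟶ Y) (hf : Magnet.MonAct.IsEquivariant aX aY f)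
    [Smooth f.left] (A : Type u) [CommRing A] (I : Ideal A) (hI : I ^ 2 = ⊥)
    (str : Spec (CommRingCat.of A) ⟶ S)
    (x : (Magnet.attr aX N).obj (op (Over.mk (Spec.map (CommRingCat.ofHom (Ideal.Quotient.mk I)) ≫ str))))
    (y : (Magnet.attr aY N).obj (op (Over.mk str)))
    (h : x.1 ≫ f = (Magnet.AMonS S N ◁ (Over.homMk (Spec.map (CommRingCat.ofHom (Ideal.Quotient.mk I))) rfl :
      Over.mk (Spec.map (CommRingCat.ofHom (Ideal.Quotient.mk I)) ≫ str) ⟶ Over.mk str)) ≫ y.1) :
    ∃ l : (Magnet.attr aX N).obj (op (Over.mk str)),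
      (Magnet.AMonS S N ◁ (Over.homMk (Spec.map (CommRingCat.ofHom (Ideal.Quotient.mk I))) rfl :
        Over.mk (Spec.map (CommRingCat.ofHom (Ideal.Quotient.mk I)) ≫ str) ⟶ Over.mk str)) ≫ l.1 = x.1 ∧
        l.1 ≫ f = y.1 := by
  let qA := Ideal.Quotient.mk I
  let t : Over.mk (Spec.map (CommRingCat.ofHom qA) ≫ str) ⟶ Over.mk str := chg A str (A ⧸ I) qA
  let ρ := (Magnet.subAct S M N).prod (Magnet.MonAct.trivial (Magnet.AMonS S M) (Over.mk str))
  let ρ₀ := (Magnet.subAct S M N).prod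
    (Magnet.MonAct.trivial (Magnet.AMonS S M) (Over.mk (Spec.map (CommRingCat.ofHom qA) ≫ str)))
  let u := Magnet.AMonS S N ◁ t
  have hu : Magnet.MonAct.IsEquivariant ρ₀ ρ u := Magnet.MonAct.prod_trivial_act_whiskerLeft (Magnet.subAct S M N) t
  let R := GA A N
  let D := GA (A ⧸ I) N
  let q : R →+* D := MonoidAlgebra.mapRingHom (Multiplicative N) qA
  have hker : RingHom.ker qA ^ 2 = ⊥ := by rw [Ideal.mk_ker]; exact hI
  have h2 : RingHom.ker q ^ 2 = ⊥ := ker_map_pow_two hker _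
  have hq : Function.Surjective q := fun w => by
    induction w using MonoidAlgebra.induction_linear with
    | zero => exact ⟨0, map_zero _⟩
    | add a b ha hb =>
      obtain ⟨a, rfl⟩ := ha
      obtain ⟨b, rfl⟩ := hb
      exact ⟨a + b, map_add _ _ _⟩
    | single m d =>
      obtain ⟨r, rfl⟩ := Ideal.Quotient.mk_surjective d
      exact ⟨MonoidAlgebra.single m r, MonoidAlgebra.mapRingHom_single _ _ _⟩
  let i₁ : A →+* R := MonoidAlgebra.singleOneRingHom
  let i₀ : A ⧸ I →+* D := MonoidAlgebra.singleOneRingHom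
  let strR := Spec.map (CommRingCat.ofHom i₁) ≫ str
  let e : Over.mk strR ⟶ Magnet.AMonS S N ⊗ Over.mk str :=
    lift (pt R strR (MonoidAlgebra.of A (Multiplicative N))) (chg A str R i₁)
  have hstrD : Spec.map (CommRingCat.ofHom q) ≫ strR =
      Spec.map (CommRingCat.ofHom i₀) ≫ Spec.map (CommRingCat.ofHom qA) ≫ str := by
    simp only [strR, ← Category.assoc, ← Spec.map_comp]
    exact congrArg (fun k => Spec.map k ≫ str) (map_ini _ qA)
  let c₀ : Over.mk (Spec.map (CommRingCat.ofHom q) ≫ strR) ⟶ Over.mk (Spec.map (CommRingCat.ofHom qA) ≫ str) :=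
    Over.homMk (Spec.map (CommRingCat.ofHom i₀)) hstrD.symm
  let e₀ : Over.mk (Spec.map (CommRingCat.ofHom q) ≫ strR) ⟶
      Magnet.AMonS S N ⊗ Over.mk (Spec.map (CommRingCat.ofHom qA) ≫ str) :=
    lift (pt D _ (MonoidAlgebra.of (A ⧸ I) (Multiplicative N))) c₀
  haveI : IsIso e.left := by rw [show e.left = _ from lift_pt_of A str N]; infer_instance
  haveI : IsIso ((Over.forget S).map e) := ‹IsIso e.left›
  haveI : IsIso e := isIso_of_reflects_iso e (Over.forget S)
  haveI : IsIso e₀ := by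
    let d : Over.mk (Spec.map (CommRingCat.ofHom q) ≫ strR) ⟶
        Over.mk (Spec.map (CommRingCat.ofHom i₀) ≫ Spec.map (CommRingCat.ofHom qA) ≫ str) :=
      Over.homMk (𝟙 _) ((Category.id_comp _).trans hstrD.symm)
    haveI : IsIso ((Over.forget S).map d) := inferInstanceAs (IsIso (𝟙 (Spec (CommRingCat.of D))))
    haveI : IsIso d := isIso_of_reflects_iso d (Over.forget S)
    let k := lift (pt D (Spec.map (CommRingCat.ofHom i₀) ≫ Spec.map (CommRingCat.ofHom qA) ≫ str)
      (MonoidAlgebra.of (A ⧸ I) (Multiplicative N))) (chg (A ⧸ I) (Spec.map (CommRingCat.ofHom qA) ≫ str) D i₀)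
    haveI : IsIso k.left := by rw [show k.left = _ from lift_pt_of (A ⧸ I) _ N]; infer_instance
    haveI : IsIso ((Over.forget S).map k) := ‹IsIso k.left›
    haveI : IsIso k := isIso_of_reflects_iso k (Over.forget S)
    have : e₀ = d ≫ k := by
      rw [comp_lift, pt_natural d (RingHom.id D) (by rw [CommRingCat.ofHom_id, Spec.map_id]; rfl)]
      exact congrArg₂ lift rfl (Over.OverMorphism.ext (Category.id_comp _).symm)
    rw [this]
    infer_instance
  have hee : chg R strR D q ≫ e = e₀ ≫ u := by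
    rw [comp_lift, lift_whiskerLeft, chg_pt]
    refine congrArg₂ lift ?_ (Over.OverMorphism.ext ?_)
    · congr 1
      exact MonoidHom.ext fun m => MonoidAlgebra.mapRingHom_single _ _ _
    · change Spec.map _ ≫ Spec.map _ = Spec.map _ ≫ Spec.map _
      rw [← Spec.map_comp, ← Spec.map_comp]
      exact congrArg Spec.map (map_ini _ qA)
  obtain ⟨g, hg, hgx, hgy⟩ := exists_eqv_lift_gen ρ aX aY f hf q hq h2 e e₀ u hee ρ₀.act hu x.1 x.2 y.1 y.2 h
  exact ⟨⟨g, hg⟩, hgx, hgy⟩

end

end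

end Groth.Agent.MagnetSmooth
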