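import Mathlib
import Groth.Agent.MagnetSmooth.Lift
import Groth.Prelude.Def_MoreMor

/-! Formal smoothness of maps of attractors induced by smooth morphisms. -/

set_option autoImplicit false
set_option linter.style.haveILetI false
set_option backward.isDefEq.respectTransparency.types false
set_option maxHeartbeats 1000000
set_option synthInstance.maxHeartbeats 400000
universe u

open CategoryTheory CategoryTheory.Limits MonoidalCategory CartesianMonoidalCategory MonObj AlgebraicGeometry Opposite

namespace Groth.Agent.MagnetSmooth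

open Groth.Agent.MagnetHom (GA chg pt gaff chg_pt)

noncomputable section

attribute [local instance 50] Groth.Agent.MagnetHom.algZ
attribute [local instance 10000] Algebra.toModule

variable {S : Scheme.{u}}

/-- The universal point `Spec C[N] ⟶ A(N)_S ×_S Spec C`. -/
def gE (C : Type u) [CommRing C] (str : Spec (CommRingCat.of C) ⟶ S) (N : Type) [AddCommMonoid N] :
    Over.mk (Spec.map (CommRingCat.ofHom (MonoidAlgebra.singleOneRingHom : C →+* GA C N)) ≫ str) ⟶
      Magnet.AMonS S N ⊗ Over.mk str :=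
  lift (pt (GA C N) _ (MonoidAlgebra.of C (Multiplicative N))) (chg C str (GA C N) MonoidAlgebra.singleOneRingHom)

instance isIso_gE (C : Type u) [CommRing C] (str : Spec (CommRingCat.of C) ⟶ S) (N : Type) [AddCommMonoid N] :
    IsIso (gE C str N) := by
  haveI : IsIso (gE C str N).left := by rw [show (gE C str N).left = _ from lift_pt_of C str N]; infer_instance
  haveI : IsIso ((Over.forget S).map (gE C str N)) := ‹IsIso (gE C str N).left›
  exact isIso_of_reflects_iso (gE C str N) (Over.forget S)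

theorem gE_natural {C C' : Type u} [CommRing C] [CommRing C'] {str : Spec (CommRingCat.of C) ⟶ S}
    {str' : Spec (CommRingCat.of C') ⟶ S} (c : Over.mk str' ⟶ Over.mk str) (φ : C →+* C')
    (hc : c.left = Spec.map (CommRingCat.ofHom φ)) (N : Type) [AddCommMonoid N]
    (d : Over.mk (Spec.map (CommRingCat.ofHom (MonoidAlgebra.singleOneRingHom : C' →+* GA C' N)) ≫ str') ⟶
      Over.mk (Spec.map (CommRingCat.ofHom (MonoidAlgebra.singleOneRingHom : C →+* GA C N)) ≫ str))
    (hd : d.left = Spec.map (CommRingCat.ofHom (MonoidAlgebra.mapRingHom (Multiplicative N) φ))) :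
    d ≫ gE C str N = gE C' str' N ≫ (Magnet.AMonS S N ◁ c) := by
  rw [gE, gE, comp_lift, lift_whiskerLeft, pt_natural d _ hd]
  refine congrArg₂ lift ?_ (Over.OverMorphism.ext ?_)
  · congr 1
    exact MonoidHom.ext fun m => by
      change MonoidAlgebra.mapRingHom (Multiplicative N) φ (MonoidAlgebra.single m 1) = MonoidAlgebra.single m 1
      rw [MonoidAlgebra.mapRingHom_single, map_one]
  · rw [Over.comp_left, Over.comp_left, hd, hc]
    change Spec.map _ ≫ Spec.map _ = Spec.map _ ≫ Spec.map _
    rw [← Spec.map_comp, ← Spec.map_comp, map_ini]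

variable {M : Type} [AddCommGroup M] {N : AddSubmonoid M} {X Y : Over S}

/-- The formal smoothness of a representing morphism from a lifting property. -/
theorem isFormallySmoothHom_of_hasLift {F G : (Over S)ᵒᵖ ⥤ Type u} (ηFG : F ⟶ G) {ZX ZY : Over S}
    (eX : F.RepresentableBy ZX) (eY : G.RepresentableBy ZY) (j : ZX ⟶ ZY)
    (hj : ∀ (T : Over S) (z : T ⟶ ZX), eY.homEquiv (z ≫ j) = ηFG.app (op T) (eX.homEquiv z))
    (hlift : ∀ (A : Type u) [CommRing A] (I : Ideal A), I ^ 2 = ⊥ → ∀ (str : Spec (CommRingCat.of A) ⟶ S)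
      (x : F.obj (op (Over.mk (Spec.map (CommRingCat.ofHom (Ideal.Quotient.mk I)) ≫ str)))) (y : G.obj (op (Over.mk str))),
      ηFG.app _ x = G.map (Over.homMk (Spec.map (CommRingCat.ofHom (Ideal.Quotient.mk I))) rfl :
        Over.mk (Spec.map (CommRingCat.ofHom (Ideal.Quotient.mk I)) ≫ str) ⟶ Over.mk str).op y →
      ∃ l : F.obj (op (Over.mk str)),
        F.map (Over.homMk (Spec.map (CommRingCat.ofHom (Ideal.Quotient.mk I))) rfl :
          Over.mk (Spec.map (CommRingCat.ofHom (Ideal.Quotient.mk I)) ≫ str) ⟶ Over.mk str).op l = x ∧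
          ηFG.app _ l = y) :
    MoreMor.IsFormallySmoothHom j.left := by
  intro A _ I hI a b w
  let str := b ≫ ZY.hom
  let t : Over.mk (Spec.map (CommRingCat.ofHom (Ideal.Quotient.mk I)) ≫ str) ⟶ Over.mk str :=
    Over.homMk (Spec.map (CommRingCat.ofHom (Ideal.Quotient.mk I))) rfl
  let a' : Over.mk (Spec.map (CommRingCat.ofHom (Ideal.Quotient.mk I)) ≫ str) ⟶ ZX := Over.homMk a (by
    change a ≫ ZX.hom = Spec.map _ ≫ b ≫ ZY.hom
    rw [← Category.assoc, w, Category.assoc, Over.w j])
  let b' : Over.mk str ⟶ ZY := Over.homMk b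
  have hab : a' ≫ j = t ≫ b' := Over.OverMorphism.ext w.symm
  obtain ⟨l, hl₁, hl₂⟩ := hlift A I hI str (eX.homEquiv a') (eY.homEquiv b') (by rw [← hj, hab, eY.homEquiv_comp])
  refine ⟨(eX.homEquiv.symm l).left, ?_, ?_⟩
  · have h : t ≫ eX.homEquiv.symm l = a' := eX.homEquiv.injective (by
      rw [eX.homEquiv_comp, Equiv.apply_symm_apply]; exact hl₁)
    exact congrArg CommaMorphism.left h
  · have h : eX.homEquiv.symm l ≫ j = b' := eY.homEquiv.injective (by rw [hj, Equiv.apply_symm_apply]; exact hl₂)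
    exact congrArg CommaMorphism.left h

/-- The lifting property of `f^N`. -/
theorem hasLift_postcomp (aX : Magnet.MonAct (Magnet.AMonS S M) X)
    (aY : Magnet.MonAct (Magnet.AMonS S M) Y) (f : X ⟶ Y) (hf : Magnet.MonAct.IsEquivariant aX aY f)
    [Smooth f.left] (A : Type u) [CommRing A] (I : Ideal A) (hI : I ^ 2 = ⊥) (str : Spec (CommRingCat.of A) ⟶ S)
    (x : (Magnet.attr aX N).obj (op (Over.mk (Spec.map (CommRingCat.ofHom (Ideal.Quotient.mk I)) ≫ str))))
    (y : (Magnet.attr aY N).obj (op (Over.mk str)))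
    (h : (Magnet.MonAct.eqvHom.postcomp (Magnet.subAct S M N) f hf).app _ x =
      (Magnet.attr aY N).map (Over.homMk (Spec.map (CommRingCat.ofHom (Ideal.Quotient.mk I))) rfl :
        Over.mk (Spec.map (CommRingCat.ofHom (Ideal.Quotient.mk I)) ≫ str) ⟶ Over.mk str).op y) :
    ∃ l : (Magnet.attr aX N).obj (op (Over.mk str)),
      (Magnet.attr aX N).map (Over.homMk (Spec.map (CommRingCat.ofHom (Ideal.Quotient.mk I))) rfl :
        Over.mk (Spec.map (CommRingCat.ofHom (Ideal.Quotient.mk I)) ≫ str) ⟶ Over.mk str).op l = x ∧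
      (Magnet.MonAct.eqvHom.postcomp (Magnet.subAct S M N) f hf).app _ l = y := by
  obtain ⟨l, hl₁, hl₂⟩ := exists_eqv_lift N aX aY f hf A I hI str x y (congrArg Subtype.val h)
  exact ⟨l, Subtype.ext hl₁, Subtype.ext hl₂⟩

end

end Groth.Agent.MagnetSmooth
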