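import Mathlib
import Groth.Agent.MagnetSmooth.Basic
import Groth.Agent.MagnetHom.PushAff
import Groth.Agent.FerrandPush.Affine

/-! The face projection of attractors of a smooth scheme is formally smooth. -/

set_option autoImplicit false
set_option linter.style.haveILetI false
set_option backward.isDefEq.respectTransparency.types false
set_option maxHeartbeats 2000000
set_option synthInstance.maxHeartbeats 400000
universe u

open CategoryTheory CategoryTheory.Limits MonoidalCategory CartesianMonoidalCategory MonObj AlgebraicGeometry Opposite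

namespace Groth.Agent.MagnetSmooth

open Groth.Agent.MagnetHom (GA chg faceGA faceGA_single gaff_faceMap)
open Groth.Agent.FerrandPush (Cart)

noncomputable section

variable {S : Scheme.{u}}

section Cart

variable {C B A' A : Type u} [CommRing C] [CommRing B] [CommRing A'] [CommRing A] (E : Cart C B A' A)

/-- A Milnor square of monoid algebras. -/
theorem exists_cart_ga (K : Type) [AddCommMonoid K] :
    ∃ E' : Cart (GA C K) (GA B K) (GA A' K) (GA A K),
      E'.fst = MonoidAlgebra.mapRingHom (Multiplicative K) E.fst ∧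
      E'.snd = MonoidAlgebra.mapRingHom (Multiplicative K) E.snd ∧
      E'.p = MonoidAlgebra.mapRingHom (Multiplicative K) E.p ∧
      E'.q = MonoidAlgebra.mapRingHom (Multiplicative K) E.q := by
  classical
  refine ⟨{ fst := MonoidAlgebra.mapRingHom (Multiplicative K) E.fst
            snd := MonoidAlgebra.mapRingHom (Multiplicative K) E.snd
            p := MonoidAlgebra.mapRingHom (Multiplicative K) E.p
            q := MonoidAlgebra.mapRingHom (Multiplicative K) E.q
            surj := ?_, w := fun c => ?_, ext' := fun x y h₁ h₂ => ?_, lift' := fun b a h => ?_ }, rfl, rfl, rfl, rfl⟩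
  · intro w
    induction w using MonoidAlgebra.induction_linear with
    | zero => exact ⟨0, map_zero _⟩
    | add p q hp hq =>
      obtain ⟨p, rfl⟩ := hp
      obtain ⟨q, rfl⟩ := hq
      exact ⟨p + q, map_add _ _ _⟩
    | single m r =>
      obtain ⟨r, rfl⟩ := E.surj r
      exact ⟨MonoidAlgebra.single m r, MonoidAlgebra.mapRingHom_single _ _ _⟩
  · refine MonoidAlgebra.coeff_injective (Finsupp.ext fun m => ?_)
    simpa only [MonoidAlgebra.coeff_mapRingHom, Finsupp.mapRange_apply] using E.w (c.coeff m)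
  · refine MonoidAlgebra.coeff_injective (Finsupp.ext fun m => E.ext' _ _ ?_ ?_)
    · simpa using congrArg (fun z : GA B K => z.coeff m) h₁
    · simpa using congrArg (fun z : GA A' K => z.coeff m) h₂
  · have hm : ∀ m, E.q (b.coeff m) = E.p (a.coeff m) := fun m => by
      simpa using congrArg (fun z : GA A K => z.coeff m) h
    choose c hc₁ hc₂ using fun m => E.lift' _ _ (hm m)
    refine ⟨∑ m ∈ b.coeff.support ∪ a.coeff.support, MonoidAlgebra.single m (c m), ?_, ?_⟩
    · rw [map_sum]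
      simp only [MonoidAlgebra.mapRingHom_single, hc₁]
      refine (Finset.sum_subset Finset.subset_union_left fun m _ hm' => ?_).symm.trans b.sum_single
      rw [Finsupp.notMem_support_iff.mp hm', MonoidAlgebra.single_zero]
    · rw [map_sum]
      simp only [MonoidAlgebra.mapRingHom_single, hc₂]
      refine (Finset.sum_subset Finset.subset_union_right fun m _ hm' => ?_).symm.trans a.sum_single
      rw [Finsupp.notMem_support_iff.mp hm', MonoidAlgebra.single_zero]

variable (str : Spec (CommRingCat.of C) ⟶ S)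

/-- The second leg. -/
abbrev legA : Over.mk (Spec.map (CommRingCat.ofHom E.snd) ≫ str) ⟶ Over.mk str := chg C str A' E.snd

/-- The first leg. -/
abbrev legB : Over.mk (Spec.map (CommRingCat.ofHom E.fst) ≫ str) ⟶ Over.mk str := chg C str B E.fst

theorem over_desc {X : Over S} (z₁ : Over.mk (Spec.map (CommRingCat.ofHom E.snd) ≫ str) ⟶ X)
    (z₂ : Over.mk (Spec.map (CommRingCat.ofHom E.fst) ≫ str) ⟶ X)
    (h : Spec.map (CommRingCat.ofHom E.p) ≫ z₁.left = Spec.map (CommRingCat.ofHom E.q) ≫ z₂.left) :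
    ∃ z : Over.mk str ⟶ X, legA E str ≫ z = z₁ ∧ legB E str ≫ z = z₂ := by
  have hp := E.isPushout_Spec
  let l := hp.desc z₁.left z₂.left h
  have hl : l ≫ X.hom = str := hp.hom_ext
    ((hp.inl_desc_assoc _ _ _ _).trans (Over.w z₁)) ((hp.inr_desc_assoc _ _ _ _).trans (Over.w z₂))
  exact ⟨Over.homMk l hl, Over.OverMorphism.ext (hp.inl_desc _ _ _), Over.OverMorphism.ext (hp.inr_desc _ _ _)⟩

variable (K : Type) [AddCommMonoid K]

theorem whisker_ext {X : Over S} (h h' : Magnet.AMonS S K ⊗ Over.mk str ⟶ X)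
    (hA : (Magnet.AMonS S K ◁ legA E str) ≫ h = (Magnet.AMonS S K ◁ legA E str) ≫ h')
    (hB : (Magnet.AMonS S K ◁ legB E str) ≫ h = (Magnet.AMonS S K ◁ legB E str) ≫ h') : h = h' := by
  obtain ⟨E', e₁, e₂, -, -⟩ := exists_cart_ga E K
  rw [← cancel_epi (gE C str K)]
  apply Over.OverMorphism.ext
  have step : ∀ {D : Type u} [CommRing D] (φ : C →+* D),
      (Magnet.AMonS S K ◁ chg C str D φ) ≫ h = (Magnet.AMonS S K ◁ chg C str D φ) ≫ h' →
      Spec.map (CommRingCat.ofHom (MonoidAlgebra.mapRingHom (Multiplicative K) φ)) ≫ (gE C str K ≫ h).left =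
        Spec.map (CommRingCat.ofHom (MonoidAlgebra.mapRingHom (Multiplicative K) φ)) ≫ (gE C str K ≫ h').left := by
    intro D _ φ e
    let d : Over.mk (Spec.map (CommRingCat.ofHom (MonoidAlgebra.singleOneRingHom : D →+* GA D K)) ≫
          Spec.map (CommRingCat.ofHom φ) ≫ str) ⟶
        Over.mk (Spec.map (CommRingCat.ofHom (MonoidAlgebra.singleOneRingHom : C →+* GA C K)) ≫ str) :=
      Over.homMk (Spec.map (CommRingCat.ofHom (MonoidAlgebra.mapRingHom (Multiplicative K) φ))) (by
        change Spec.map _ ≫ Spec.map _ ≫ str = Spec.map _ ≫ Spec.map _ ≫ str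
        simp only [← Category.assoc, ← Spec.map_comp]
        exact congrArg (fun k => Spec.map k ≫ str) (map_ini _ φ))
    have hn := gE_natural (chg C str D φ) φ rfl K d rfl
    have e' : d ≫ gE C str K ≫ h = d ≫ gE C str K ≫ h' := by
      rw [reassoc_of% hn, reassoc_of% hn, e]
    exact congrArg CommaMorphism.left e'
  refine E'.isPushout_Spec.hom_ext ?_ ?_
  · rw [Groth.Agent.FerrandPush.Cart.iA', e₂]; exact step E.snd hA
  · rw [Groth.Agent.FerrandPush.Cart.iB, e₁]; exact step E.fst hB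

theorem whisker_desc {X : Over S}
    (k₁ : Magnet.AMonS S K ⊗ Over.mk (Spec.map (CommRingCat.ofHom E.snd) ≫ str) ⟶ X)
    (k₂ : Magnet.AMonS S K ⊗ Over.mk (Spec.map (CommRingCat.ofHom E.fst) ≫ str) ⟶ X)
    {str₀ : Spec (CommRingCat.of A) ⟶ S} (j₁ : Over.mk str₀ ⟶ Over.mk (Spec.map (CommRingCat.ofHom E.snd) ≫ str))
    (j₂ : Over.mk str₀ ⟶ Over.mk (Spec.map (CommRingCat.ofHom E.fst) ≫ str))
    (hj₁ : j₁.left = Spec.map (CommRingCat.ofHom E.p)) (hj₂ : j₂.left = Spec.map (CommRingCat.ofHom E.q))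
    (h : (Magnet.AMonS S K ◁ j₁) ≫ k₁ = (Magnet.AMonS S K ◁ j₂) ≫ k₂) :
    ∃ k : Magnet.AMonS S K ⊗ Over.mk str ⟶ X,
      (Magnet.AMonS S K ◁ legA E str) ≫ k = k₁ ∧ (Magnet.AMonS S K ◁ legB E str) ≫ k = k₂ := by
  obtain ⟨E', e₁, e₂, e₃, e₄⟩ := exists_cart_ga E K
  let dlift : ∀ {D : Type u} [CommRing D] {strD : Spec (CommRingCat.of D) ⟶ S} {D' : Type u} [CommRing D']
      {strD' : Spec (CommRingCat.of D') ⟶ S} (c : Over.mk strD' ⟶ Over.mk strD) (φ : D →+* D'),
      c.left = Spec.map (CommRingCat.ofHom φ) →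
      (Over.mk (Spec.map (CommRingCat.ofHom (MonoidAlgebra.singleOneRingHom : D' →+* GA D' K)) ≫ strD') ⟶
        Over.mk (Spec.map (CommRingCat.ofHom (MonoidAlgebra.singleOneRingHom : D →+* GA D K)) ≫ strD)) :=
    fun {D} _ {strD} {D'} _ {strD'} c φ hc =>
      Over.homMk (Spec.map (CommRingCat.ofHom (MonoidAlgebra.mapRingHom (Multiplicative K) φ))) (by
        have hw : Spec.map (CommRingCat.ofHom φ) ≫ strD = strD' := by rw [← hc]; exact Over.w c
        change Spec.map _ ≫ Spec.map _ ≫ strD = Spec.map _ ≫ strD'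
        rw [← hw]
        simp only [← Category.assoc, ← Spec.map_comp]
        exact congrArg (fun k => Spec.map k ≫ strD) (map_ini _ φ))
  have hc : Spec.map (CommRingCat.ofHom E'.p) ≫ (gE A' _ K ≫ k₁).left =
      Spec.map (CommRingCat.ofHom E'.q) ≫ (gE B _ K ≫ k₂).left := by
    have n₁ := gE_natural j₁ E.p hj₁ K (dlift j₁ E.p hj₁) rfl
    have n₂ := gE_natural j₂ E.q hj₂ K (dlift j₂ E.q hj₂) rfl
    have e : dlift j₁ E.p hj₁ ≫ gE A' _ K ≫ k₁ = dlift j₂ E.q hj₂ ≫ gE B _ K ≫ k₂ := by
      rw [reassoc_of% n₁, reassoc_of% n₂, h]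
    rw [e₃, e₄]
    exact congrArg CommaMorphism.left e
  have hp := E'.isPushout_Spec
  let l := hp.desc _ _ hc
  let d₁ := dlift (legA E str) E.snd rfl
  let d₂ := dlift (legB E str) E.fst rfl
  have hlA : Spec.map (CommRingCat.ofHom (MonoidAlgebra.mapRingHom (Multiplicative K) E.snd)) ≫ l =
      (gE A' _ K ≫ k₁).left := by
    rw [← e₂]; exact hp.inl_desc _ _ _
  have hlB : Spec.map (CommRingCat.ofHom (MonoidAlgebra.mapRingHom (Multiplicative K) E.fst)) ≫ l =
      (gE B _ K ≫ k₂).left := by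
    rw [← e₁]; exact hp.inr_desc _ _ _
  have hl : l ≫ X.hom = Spec.map (CommRingCat.ofHom (MonoidAlgebra.singleOneRingHom : C →+* GA C K)) ≫ str := by
    apply hp.hom_ext
    · rw [Groth.Agent.FerrandPush.Cart.iA', e₂, reassoc_of% hlA, Over.w (gE A' _ K ≫ k₁)]
      exact (Over.w d₁).symm
    · rw [Groth.Agent.FerrandPush.Cart.iB, e₁, reassoc_of% hlB, Over.w (gE B _ K ≫ k₂)]
      exact (Over.w d₂).symm
  refine ⟨inv (gE C str K) ≫ (Over.homMk l hl :
    Over.mk (Spec.map (CommRingCat.ofHom (MonoidAlgebra.singleOneRingHom : C →+* GA C K)) ≫ str) ⟶ X), ?_, ?_⟩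
  · rw [← cancel_epi (gE A' _ K), ← reassoc_of% (gE_natural (legA E str) E.snd rfl K d₁ rfl), IsIso.hom_inv_id_assoc]
    exact Over.OverMorphism.ext hlA
  · rw [← cancel_epi (gE B _ K), ← reassoc_of% (gE_natural (legB E str) E.fst rfl K d₂ rfl), IsIso.hom_inv_id_assoc]
    exact Over.OverMorphism.ext hlB

end Cart

variable {M : Type} [AddCommGroup M]

theorem isEquivariant_faceMap_whiskerRight {N F : AddSubmonoid M} (hF : Magnet.IsFace N F) (T : Over S) :
    ((Magnet.subAct S M F).prod (Magnet.MonAct.trivial (Magnet.AMonS S M) T)).act ≫ (Magnet.AMonS.faceMap S hF ▷ T) =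
      (Magnet.AMonS S M ◁ (Magnet.AMonS.faceMap S hF ▷ T)) ≫
        ((Magnet.subAct S M N).prod (Magnet.MonAct.trivial (Magnet.AMonS S M) T)).act := by
  apply Magnet.hom_ext_lift₂
  intro T' g z
  rw [← lift_comp_fst_snd z]
  simp only [Magnet.MonAct.lift_prod_act_assoc, Magnet.MonAct.lift_trivial_act, lift_whiskerRight, lift_whiskerLeft_assoc,
    Magnet.MonAct.lift_prod_act, Category.assoc]
  rw [(Magnet.MonAct.isEquivariant_iff _ _ _).mp (Magnet.isEquivariant_faceMapS S hF)]
  simp only [Category.assoc]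

theorem map_faceGA {R D : Type u} [CommRing R] [CommRing D] (q : R →+* D) {N F : AddSubmonoid M}
    (hF : Magnet.IsFace N F) (r : GA R N) :
    MonoidAlgebra.mapRingHom (Multiplicative F) q (faceGA R hF r) =
      faceGA D hF (MonoidAlgebra.mapRingHom (Multiplicative N) q r) := by
  classical
  induction r using MonoidAlgebra.induction_linear with
  | zero => simp
  | add a b ha hb => simp only [map_add, ha, hb]
  | single m c =>
    rw [MonoidAlgebra.mapRingHom_single, faceGA_single, faceGA_single]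
    split_ifs with h
    · rw [MonoidAlgebra.mapRingHom_single]
    · rw [map_zero]

variable {X : Over S}

theorem exists_face_lift {N F : AddSubmonoid M} (hF : Magnet.IsFace N F) [Smooth X.hom]
    (a : Magnet.MonAct (Magnet.AMonS S M) X) (A : Type u) [CommRing A] (I : Ideal A) (hI : I ^ 2 = ⊥)
    (str : Spec (CommRingCat.of A) ⟶ S)
    (x : (Magnet.attr a N).obj (op (Over.mk (Spec.map (CommRingCat.ofHom (Ideal.Quotient.mk I)) ≫ str))))
    (y : (Magnet.attr a F).obj (op (Over.mk str)))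
    (h : (Magnet.AMonS.faceMap S hF ▷ _) ≫ x.1 =
      (Magnet.AMonS S F ◁ chg A str (A ⧸ I) (Ideal.Quotient.mk I)) ≫ y.1) :
    ∃ l : (Magnet.attr a N).obj (op (Over.mk str)),
      (Magnet.AMonS S N ◁ chg A str (A ⧸ I) (Ideal.Quotient.mk I)) ≫ l.1 = x.1 ∧
        (Magnet.AMonS.faceMap S hF ▷ _) ≫ l.1 = y.1 := by
  classical
  let qA := Ideal.Quotient.mk I
  let t := chg A str (A ⧸ I) qA
  let T : Over S := Over.mk (Spec.map (CommRingCat.ofHom qA) ≫ str)
  let R := GA A N
  let a₁ : R →+* GA A F := faceGA A hF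
  let a₂ : R →+* GA (A ⧸ I) N := MonoidAlgebra.mapRingHom (Multiplicative N) qA
  let K : Ideal R := RingHom.ker a₁ ⊓ RingHom.ker a₂
  let q : R →+* R ⧸ K := Ideal.Quotient.mk K
  have h2 : RingHom.ker q ^ 2 = ⊥ := by
    rw [Ideal.mk_ker, eq_bot_iff]
    refine (Ideal.pow_right_mono inf_le_right 2).trans (le_of_eq ?_)
    exact ker_map_pow_two (show RingHom.ker qA ^ 2 = ⊥ by rw [Ideal.mk_ker]; exact hI) _
  let inc : ∀ (C : Type u) [CommRing C], GA C F →+* GA C N := fun C _ =>
    MonoidAlgebra.mapDomainRingHom C (AddMonoidHom.toMultiplicative (AddSubmonoid.inclusion hF.le))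
  have hface : ∀ (C : Type u) [CommRing C] (z : GA C F), faceGA C hF (inc C z) = z := fun C _ z =>
    DFunLike.congr_fun (Magnet.faceAlgHom_comp_mapDomain C hF) z
  have hincmap : ∀ z : GA A F, MonoidAlgebra.mapRingHom (Multiplicative N) qA (inc A z) =
      inc (A ⧸ I) (MonoidAlgebra.mapRingHom (Multiplicative F) qA z) := fun z => by
    induction z using MonoidAlgebra.induction_linear with
    | zero => simp
    | add p r hp hr => simp only [map_add, hp, hr]
    | single m c => simp [inc]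
  let E : Cart (R ⧸ K) (GA (A ⧸ I) N) (GA A F) (GA (A ⧸ I) F) :=
    { fst := Ideal.Quotient.lift K a₂ fun r hr => hr.2
      snd := Ideal.Quotient.lift K a₁ fun r hr => hr.1
      p := MonoidAlgebra.mapRingHom (Multiplicative F) qA
      q := faceGA (A ⧸ I) hF
      surj := fun w => by
        induction w using MonoidAlgebra.induction_linear with
        | zero => exact ⟨0, map_zero _⟩
        | add p r hp hr =>
          obtain ⟨p, rfl⟩ := hp
          obtain ⟨r, rfl⟩ := hr
          exact ⟨p + r, map_add _ _ _⟩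
        | single m c =>
          obtain ⟨c, rfl⟩ := Ideal.Quotient.mk_surjective c
          exact ⟨MonoidAlgebra.single m c, MonoidAlgebra.mapRingHom_single _ _ _⟩
      w := fun c => by
        obtain ⟨c, rfl⟩ := Ideal.Quotient.mk_surjective c
        exact (map_faceGA qA hF c).symm
      ext' := fun p r hB hA => by
        obtain ⟨p, rfl⟩ := Ideal.Quotient.mk_surjective p
        obtain ⟨r, rfl⟩ := Ideal.Quotient.mk_surjective r
        refine Ideal.Quotient.eq.mpr ⟨?_, ?_⟩
        · exact RingHom.mem_ker.mpr ((map_sub _ _ _).trans (sub_eq_zero.mpr hA))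
        · exact RingHom.mem_ker.mpr ((map_sub _ _ _).trans (sub_eq_zero.mpr hB))
      lift' := fun b c hbc => by
        obtain ⟨b', rfl⟩ : ∃ b', a₂ b' = b := by
          induction b using MonoidAlgebra.induction_linear generalizing c with
          | zero => exact ⟨0, map_zero _⟩
          | add p r hp hr =>
            obtain ⟨cp, hcp⟩ := (fun w => show ∃ c, MonoidAlgebra.mapRingHom (Multiplicative F) qA c = w from by
              induction w using MonoidAlgebra.induction_linear with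
              | zero => exact ⟨0, map_zero _⟩
              | add p r hp hr =>
                obtain ⟨p, rfl⟩ := hp
                obtain ⟨r, rfl⟩ := hr
                exact ⟨p + r, map_add _ _ _⟩
              | single m c =>
                obtain ⟨c, rfl⟩ := Ideal.Quotient.mk_surjective c
                exact ⟨MonoidAlgebra.single m c, MonoidAlgebra.mapRingHom_single _ _ _⟩) (faceGA (A ⧸ I) hF p)
            obtain ⟨p, rfl⟩ := hp cp hcp.symm
            obtain ⟨r, rfl⟩ := hr (c - cp) (by rw [map_sub, hcp, ← hbc, map_add, add_sub_cancel_left])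
            exact ⟨p + r, map_add _ _ _⟩
          | single m d =>
            obtain ⟨d, rfl⟩ := Ideal.Quotient.mk_surjective d
            exact ⟨MonoidAlgebra.single m d, MonoidAlgebra.mapRingHom_single _ _ _⟩
        refine ⟨Ideal.Quotient.mk K (inc A c + (b' - inc A (a₁ b'))), ?_, ?_⟩
        · change a₂ _ = a₂ b'
          rw [map_add, map_sub]
          change MonoidAlgebra.mapRingHom _ qA (inc A c) + (_ - MonoidAlgebra.mapRingHom _ qA (inc A (a₁ b'))) = _
          rw [hincmap, hincmap, map_faceGA, ← hbc]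
          change inc (A ⧸ I) _ + (a₂ b' - inc (A ⧸ I) _) = a₂ b'
          rw [add_sub_cancel]
        · change a₁ _ = c
          rw [map_add, map_sub]
          change faceGA A hF (inc A c) + (a₁ b' - faceGA A hF (inc A (a₁ b'))) = c
          rw [hface, hface, sub_self, add_zero] }
  let strR : Spec (CommRingCat.of R) ⟶ S :=
    Spec.map (CommRingCat.ofHom (MonoidAlgebra.singleOneRingHom : A →+* R)) ≫ str
  let strD : Spec (CommRingCat.of (R ⧸ K)) ⟶ S := Spec.map (CommRingCat.ofHom q) ≫ strR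
  let e := gE A str N
  let u : Over.mk strD ⟶ Magnet.AMonS S N ⊗ Over.mk str := chg R strR (R ⧸ K) q ≫ e
  -- the two legs as products
  have hiniF : CommRingCat.ofHom (MonoidAlgebra.singleOneRingHom : A →+* R) ≫ CommRingCat.ofHom a₁ =
      CommRingCat.ofHom (MonoidAlgebra.singleOneRingHom : A →+* GA A F) := by
    refine CommRingCat.hom_ext (RingHom.ext fun c => ?_)
    change faceGA A hF (MonoidAlgebra.single 1 c) = MonoidAlgebra.single 1 c
    rw [faceGA_single, dif_pos (show (((Multiplicative.toAdd (1 : Multiplicative N)) : N) : M) ∈ F from F.zero_mem)]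
    rfl
  have hsA : Spec.map (CommRingCat.ofHom E.snd) ≫ strD =
      Spec.map (CommRingCat.ofHom (MonoidAlgebra.singleOneRingHom : A →+* GA A F)) ≫ str := by
    simp only [strD, strR, ← Category.assoc, ← Spec.map_comp]
    exact congrArg (fun k => Spec.map k ≫ str) hiniF
  have hsB : Spec.map (CommRingCat.ofHom E.fst) ≫ strD = Spec.map (CommRingCat.ofHom
      (MonoidAlgebra.singleOneRingHom : A ⧸ I →+* GA (A ⧸ I) N)) ≫ Spec.map (CommRingCat.ofHom qA) ≫ str := by
    simp only [strD, strR, ← Category.assoc, ← Spec.map_comp]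
    exact congrArg (fun k => Spec.map k ≫ str) (map_ini _ qA)
  let c₁ : Over.mk (Spec.map (CommRingCat.ofHom E.snd) ≫ strD) ≅
      Over.mk (Spec.map (CommRingCat.ofHom (MonoidAlgebra.singleOneRingHom : A →+* GA A F)) ≫ str) :=
    Over.isoMk (Iso.refl _) ((Category.id_comp _).trans hsA.symm)
  let c₂ : Over.mk (Spec.map (CommRingCat.ofHom E.fst) ≫ strD) ≅ Over.mk (Spec.map (CommRingCat.ofHom
      (MonoidAlgebra.singleOneRingHom : A ⧸ I →+* GA (A ⧸ I) N)) ≫ Spec.map (CommRingCat.ofHom qA) ≫ str) :=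
    Over.isoMk (Iso.refl _) ((Category.id_comp _).trans hsB.symm)
  let ε₁ : Over.mk (Spec.map (CommRingCat.ofHom E.snd) ≫ strD) ≅ Magnet.AMonS S F ⊗ Over.mk str :=
    c₁ ≪≫ asIso (gE A str F)
  let ε₂ : Over.mk (Spec.map (CommRingCat.ofHom E.fst) ≫ strD) ≅ Magnet.AMonS S N ⊗ T :=
    c₂ ≪≫ asIso (gE (A ⧸ I) (Spec.map (CommRingCat.ofHom qA) ≫ str) N)
  let str₀ : Spec (CommRingCat.of (GA (A ⧸ I) F)) ⟶ S := Spec.map (CommRingCat.ofHom
      (MonoidAlgebra.singleOneRingHom : A ⧸ I →+* GA (A ⧸ I) F)) ≫ Spec.map (CommRingCat.ofHom qA) ≫ str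
  let ε₀ := asIso (gE (A ⧸ I) (Spec.map (CommRingCat.ofHom qA) ≫ str) F)
  let j₁ : Over.mk str₀ ⟶ Over.mk (Spec.map (CommRingCat.ofHom E.snd) ≫ strD) :=
    Over.homMk (Spec.map (CommRingCat.ofHom E.p)) (by
      change Spec.map _ ≫ Spec.map _ ≫ strD = str₀
      rw [hsA]
      simp only [str₀, ← Category.assoc, ← Spec.map_comp]
      exact congrArg (fun k => Spec.map k ≫ str) (map_ini _ qA))
  let j₂ : Over.mk str₀ ⟶ Over.mk (Spec.map (CommRingCat.ofHom E.fst) ≫ strD) :=
    Over.homMk (Spec.map (CommRingCat.ofHom E.q)) (by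
      change Spec.map _ ≫ Spec.map _ ≫ strD = str₀
      rw [hsB]
      simp only [str₀, ← Category.assoc, ← Spec.map_comp]
      refine congrArg (fun k => Spec.map k ≫ str) ?_
      refine (Category.assoc _ _ _).trans
        (congrArg (CommRingCat.ofHom qA ≫ ·) (CommRingCat.hom_ext (RingHom.ext fun c => ?_)))
      change faceGA (A ⧸ I) hF (MonoidAlgebra.single 1 c) = MonoidAlgebra.single 1 c
      rw [faceGA_single, dif_pos (show (((Multiplicative.toAdd (1 : Multiplicative N)) : N) : M) ∈ F from F.zero_mem)]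
      rfl)
  have hj₁ : j₁ ≫ ε₁.hom = ε₀.hom ≫ (Magnet.AMonS S F ◁ t) := by
    refine (Category.assoc _ _ _).symm.trans (gE_natural t qA rfl F (j₁ ≫ c₁.hom) ?_)
    exact Category.comp_id _
  have face_gE : ∀ (C : Type u) [CommRing C] (s : Spec (CommRingCat.of C) ⟶ S)
      (c : Over.mk (Spec.map (CommRingCat.ofHom (MonoidAlgebra.singleOneRingHom : C →+* GA C F)) ≫ s) ⟶
        Over.mk (Spec.map (CommRingCat.ofHom (MonoidAlgebra.singleOneRingHom : C →+* GA C N)) ≫ s)),
      c.left = Spec.map (CommRingCat.ofHom (faceGA C hF)) →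
      c ≫ gE C s N = gE C s F ≫ (Magnet.AMonS.faceMap S hF ▷ Over.mk s) := by
    intro C _ s c hc
    apply Over.OverMorphism.ext
    rw [Over.comp_left, Over.comp_left, hc, show (gE C s N).left = _ from lift_pt_of C s N,
      show (gE C s F).left = _ from lift_pt_of C s F]
    exact (gaff_faceMap C s hF).symm
  have hj₂ : j₂ ≫ ε₂.hom = ε₀.hom ≫ (Magnet.AMonS.faceMap S hF ▷ T) := by
    refine (Category.assoc _ _ _).symm.trans (face_gE (A ⧸ I) _ (j₂ ≫ c₂.hom) ?_)
    exact Category.comp_id _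
  have hu₁ : legA E strD ≫ u = ε₁.hom ≫ (Magnet.AMonS.faceMap S hF ▷ Over.mk str) := by
    let c : Over.mk (Spec.map (CommRingCat.ofHom (MonoidAlgebra.singleOneRingHom : A →+* GA A F)) ≫ str) ⟶
        Over.mk (Spec.map (CommRingCat.ofHom (MonoidAlgebra.singleOneRingHom : A →+* R)) ≫ str) :=
      Over.homMk (Spec.map (CommRingCat.ofHom a₁)) (by
        change Spec.map _ ≫ Spec.map _ ≫ str = Spec.map _ ≫ str
        simp only [← Category.assoc, ← Spec.map_comp]
        exact congrArg (fun k => Spec.map k ≫ str) hiniF)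
    have : legA E strD ≫ chg R strR (R ⧸ K) q = c₁.hom ≫ c := Over.OverMorphism.ext (by
      change Spec.map _ ≫ Spec.map _ = 𝟙 _ ≫ Spec.map _
      rw [← Spec.map_comp, Category.id_comp]
      rfl)
    refine (Category.assoc _ _ _).symm.trans ((congrArg (· ≫ e) this).trans ?_)
    refine (Category.assoc _ _ _).trans ((congrArg (c₁.hom ≫ ·) (face_gE A str c rfl)).trans ?_)
    exact (Category.assoc _ _ _).symm
  have hu₂ : legB E strD ≫ u = ε₂.hom ≫ (Magnet.AMonS S N ◁ t) := by
    let c : Over.mk (Spec.map (CommRingCat.ofHom (MonoidAlgebra.singleOneRingHom : A ⧸ I →+* GA (A ⧸ I) N)) ≫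
          Spec.map (CommRingCat.ofHom qA) ≫ str) ⟶
        Over.mk (Spec.map (CommRingCat.ofHom (MonoidAlgebra.singleOneRingHom : A →+* R)) ≫ str) :=
      Over.homMk (Spec.map (CommRingCat.ofHom a₂)) (by
        change Spec.map _ ≫ Spec.map _ ≫ str = Spec.map _ ≫ Spec.map _ ≫ str
        simp only [← Category.assoc, ← Spec.map_comp]
        exact congrArg (fun k => Spec.map k ≫ str) (map_ini _ qA))
    have : legB E strD ≫ chg R strR (R ⧸ K) q = c₂.hom ≫ c := Over.OverMorphism.ext (by
      change Spec.map _ ≫ Spec.map _ = 𝟙 _ ≫ Spec.map _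
      rw [← Spec.map_comp, Category.id_comp]
      rfl)
    refine (Category.assoc _ _ _).symm.trans ((congrArg (· ≫ e) this).trans ?_)
    refine (Category.assoc _ _ _).trans ((congrArg (c₂.hom ≫ ·) (gE_natural t qA rfl N c rfl)).trans ?_)
    exact (Category.assoc _ _ _).symm
  let ρ := (Magnet.subAct S M N).prod (Magnet.MonAct.trivial (Magnet.AMonS S M) (Over.mk str))
  let ρT := (Magnet.subAct S M N).prod (Magnet.MonAct.trivial (Magnet.AMonS S M) T)
  let ρF := (Magnet.subAct S M F).prod (Magnet.MonAct.trivial (Magnet.AMonS S M) (Over.mk str))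
  let ρ₀ := (Magnet.subAct S M F).prod (Magnet.MonAct.trivial (Magnet.AMonS S M) T)
  have hjj : j₁ ≫ legA E strD = j₂ ≫ legB E strD := Over.OverMorphism.ext E.isPushout_Spec.w
  -- the action on the glued scheme
  obtain ⟨m, hm₁, hm₂⟩ := whisker_desc E strD M
    ((Magnet.AMonS S M ◁ ε₁.hom) ≫ ρF.act ≫ ε₁.inv ≫ legA E strD)
    ((Magnet.AMonS S M ◁ ε₂.hom) ≫ ρT.act ≫ ε₂.inv ≫ legB E strD) j₁ j₂ rfl rfl (by
      rw [← MonoidalCategory.whiskerLeft_comp_assoc, hj₁, ← MonoidalCategory.whiskerLeft_comp_assoc, hj₂,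
        MonoidalCategory.whiskerLeft_comp_assoc, MonoidalCategory.whiskerLeft_comp_assoc,
        ← reassoc_of% (show ρ₀.act ≫ (Magnet.AMonS S F ◁ t) = _ from
          Magnet.MonAct.prod_trivial_act_whiskerLeft (Magnet.subAct S M F) t),
        ← reassoc_of% (isEquivariant_faceMap_whiskerRight hF T)]
      congr 2
      rw [← cancel_epi ε₀.hom, ← reassoc_of% hj₁, ← reassoc_of% hj₂, Iso.hom_inv_id_assoc, Iso.hom_inv_id_assoc, hjj])
  have hu : m ≫ u = (Magnet.AMonS S M ◁ u) ≫ ρ.act := by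
    refine whisker_ext E strD M _ _ ?_ ?_
    · rw [reassoc_of% hm₁, hu₁, ← MonoidalCategory.whiskerLeft_comp_assoc, hu₁, Iso.inv_hom_id_assoc,
        isEquivariant_faceMap_whiskerRight hF, MonoidalCategory.whiskerLeft_comp_assoc]
    · rw [reassoc_of% hm₂, hu₂, ← MonoidalCategory.whiskerLeft_comp_assoc, hu₂, Iso.inv_hom_id_assoc,
        Magnet.MonAct.prod_trivial_act_whiskerLeft (Magnet.subAct S M N) t, MonoidalCategory.whiskerLeft_comp_assoc]
  -- the map on the glued scheme
  obtain ⟨x₀, hx₁, hx₂⟩ := over_desc E strD (ε₁.hom ≫ y.1) (ε₂.hom ≫ x.1) (by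
    have e' : j₁ ≫ ε₁.hom ≫ y.1 = j₂ ≫ ε₂.hom ≫ x.1 := by
      rw [reassoc_of% hj₁, reassoc_of% hj₂, h]
    exact congrArg CommaMorphism.left e')
  have hx : m ≫ x₀ = (Magnet.AMonS S M ◁ x₀) ≫ a.act := by
    refine whisker_ext E strD M _ _ ?_ ?_
    · rw [reassoc_of% hm₁, hx₁, ← MonoidalCategory.whiskerLeft_comp_assoc, hx₁, Iso.inv_hom_id_assoc,
        show ρF.act ≫ y.1 = _ from y.2, MonoidalCategory.whiskerLeft_comp_assoc]
    · rw [reassoc_of% hm₂, hx₂, ← MonoidalCategory.whiskerLeft_comp_assoc, hx₂, Iso.inv_hom_id_assoc,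
        show ρT.act ≫ x.1 = _ from x.2, MonoidalCategory.whiskerLeft_comp_assoc]
  haveI : Smooth (toUnit X).left := by
    rw [show (toUnit X).left = X.hom from (Category.comp_id _).symm.trans (Over.w (toUnit X))]
    infer_instance
  obtain ⟨g, hg, hgu, -⟩ := exists_eqv_lift_gen ρ a (Magnet.MonAct.trivial (Magnet.AMonS S M) (𝟙_ (Over S))) (toUnit X)
    (toUnit_unique _ _) q Ideal.Quotient.mk_surjective h2 e (𝟙 (Over.mk strD)) u (Category.id_comp _).symm m hu x₀ hx
    (toUnit _) (toUnit_unique _ _) (toUnit_unique _ _)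
  refine ⟨⟨g, hg⟩, ?_, ?_⟩
  · change (Magnet.AMonS S N ◁ t) ≫ g = x.1
    rw [← cancel_epi ε₂.hom, ← reassoc_of% hu₂, hgu, hx₂]
  · change (Magnet.AMonS.faceMap S hF ▷ Over.mk str) ≫ g = y.1
    rw [← cancel_epi ε₁.hom, ← reassoc_of% hu₁, hgu, hx₁]

end

end Groth.Agent.MagnetSmooth
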