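import Mathlib
import Groth.Prelude.Def_Magnet4
import Groth.Agent.MagnetHom.Homotopy

/-! The fibres of the face retraction of attractors contract onto the canonical section. -/

set_option autoImplicit false
set_option backward.isDefEq.respectTransparency false
set_option backward.isDefEq.respectTransparency.types false
universe u

open CategoryTheory CategoryTheory.Limits MonoidalCategory CartesianMonoidalCategory MonObj AlgebraicGeometry Opposite

namespace Groth.Agent.MagnetSmooth

open Groth.Agent.MagnetHom

noncomputable section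

attribute [-instance] AlgebraicGeometry.instGrpObjSpecAsOverSpec AlgebraicGeometry.instCommGrpObjSpecAsOverSpec

variable {S : Scheme.{u}} {M : Type} [AddCommGroup M] {X : Over S} (a : Magnet.MonAct (Magnet.AMonS S M) X)
  {N F : AddSubmonoid M}

theorem attrFace_delta' (hF : Magnet.IsFace N F) (d : ↥N →+ ℕ) (hd : ∀ n : ↥N, d n = 0 ↔ (n : M) ∈ F)
    (T : Over S) (x : (Magnet.attr a N).obj (op T)) (c : Γ(T.left, ⊤)) :
    (Magnet.attrFace a hF).app (op T) (delta' a d T x c) = (Magnet.attrFace a hF).app (op T) x := by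
  refine Subtype.ext ?_
  change (Magnet.AMonS.faceMap S hF ▷ T) ≫ lift _ _ ≫ x.1 = (Magnet.AMonS.faceMap S hF ▷ T) ≫ x.1
  rw [← Category.assoc]
  congr 1
  refine Magnet.hom_ext_lift₂ fun W b s => ?_
  rw [← Category.assoc, lift_whiskerRight, comp_lift, MonObj.comp_mul, lift_snd_assoc, lift_fst, lift_snd]
  congr 1
  refine hom_ext_pts fun C _ str r => ?_
  obtain ⟨p, hp⟩ := exists_eq_pt C str (r ≫ b)
  classical
  let p' : Multiplicative N →* C :=
    { toFun := fun n => if h : ((Multiplicative.toAdd n : N) : M) ∈ F then p (Multiplicative.ofAdd ⟨_, h⟩) else 0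
      map_one' := by
        rw [dif_pos (by exact F.zero_mem)]
        exact p.map_one
      map_mul' := fun m n => by
        by_cases hm : ((Multiplicative.toAdd m : N) : M) ∈ F <;> by_cases hn : ((Multiplicative.toAdd n : N) : M) ∈ F
        · rw [dif_pos hm, dif_pos hn, dif_pos (by exact F.add_mem hm hn), ← p.map_mul]
          rfl
        all_goals rw [dif_neg (fun h => by
          obtain ⟨h1, h2⟩ := hF.mem_of_add_mem _ (Multiplicative.toAdd m).2 _ (Multiplicative.toAdd n).2 h
          contradiction)]
        · rw [dif_pos hm, dif_neg hn, mul_zero]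
        · rw [dif_neg hm, dif_pos hn, zero_mul]
        · rw [dif_neg hm, dif_neg hn, zero_mul] }
  have hp' : pt C str p ≫ Magnet.AMonS.faceMap S hF = pt C str p' :=
    pt_faceMap hF C str p p' (fun n h => dif_pos h) (fun n h => dif_neg h)
  rw [MonObj.comp_mul, ← Category.assoc r s, comp_ptG_pt, ← Category.assoc r b, hp, hp', ← pt_mul]
  congr 1
  ext n
  by_cases h : ((n : N) : M) ∈ F
  · simp [powChar, (hd n).mpr h]
  · simp [p', h]

theorem delta'_naturality (d : ↥N →+ ℕ) (T T' : Over S) (t : T' ⟶ T) (x : (Magnet.attr a N).obj (op T)) (c : Γ(T.left, ⊤)) :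
    delta' a d T' ((Magnet.attr a N).map t.op x) (t.left.appTop c) = (Magnet.attr a N).map t.op (delta' a d T x c) := by
  refine Subtype.ext ?_
  change lift _ _ ≫ (Magnet.AMonS S N ◁ t) ≫ x.1 = (Magnet.AMonS S N ◁ t) ≫ lift _ _ ≫ x.1
  refine Magnet.hom_ext_lift₂ fun W b s => ?_
  have hq : t ≫ ptG T (powChar d c) = ptG T' (powChar d (t.left.appTop c)) := by
    rw [comp_ptG]
    congr 1
    ext n
    simp [powChar]
  simp only [← hq, comp_lift_assoc, MonObj.comp_mul, lift_fst, lift_snd, lift_snd_assoc, lift_whiskerLeft_assoc,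
    Category.assoc]

theorem delta'_zero (hF : Magnet.IsFace N F) (d : ↥N →+ ℕ) (hd : ∀ n : ↥N, d n = 0 ↔ (n : M) ∈ F)
    (T : Over S) (x : (Magnet.attr a N).obj (op T)) :
    delta' a d T x 0 = (Magnet.attrMap a hF.le).app (op T) ((Magnet.attrFace a hF).app (op T) x) := by
  refine Subtype.ext ?_
  change lift _ _ ≫ x.1 = (Magnet.AMonS.map S _ ▷ T) ≫ (Magnet.AMonS.faceMap S hF ▷ T) ≫ x.1
  rw [← comp_whiskerRight_assoc]
  congr 1
  refine Magnet.hom_ext_lift₂ fun W b s => ?_
  rw [lift_whiskerRight, comp_lift, MonObj.comp_mul, lift_snd_assoc, lift_fst, lift_snd]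
  congr 1
  refine hom_ext_pts fun C _ str r => ?_
  obtain ⟨p, hp⟩ := exists_eq_pt C str (r ≫ b)
  rw [MonObj.comp_mul, ← Category.assoc r s, comp_ptG_pt, hp, ← pt_mul, ← Category.assoc r b, hp, ← Category.assoc,
    pt_map]
  refine (pt_faceMap hF C str _ _ (fun n h => ?_) (fun n h => ?_)).symm
  · simp [powChar, (hd n).mpr h]
    rfl
  · have : d n ≠ 0 := fun h' => h ((hd n).mp h')
    simp [powChar, zero_pow this]

theorem delta'_one (d : ↥N →+ ℕ) (T : Over S) (x : (Magnet.attr a N).obj (op T)) : delta' a d T x 1 = x := by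
  refine Subtype.ext ?_
  change lift _ _ ≫ x.1 = x.1
  rw [show powChar d (1 : Γ(T.left, ⊤)) = 1 from by ext n; simp [powChar], ptG_one, MonObj.comp_one, _root_.one_mul,
    lift_fst_snd, Category.id_comp]

theorem connected_fibre (hF : Magnet.IsFace N F) (d : ↥N →+ ℕ) (hd : ∀ n : ↥N, d n = 0 ↔ (n : M) ∈ F)
    {ZN Z0 : Over S} (eN : (Magnet.attr a N).RepresentableBy ZN)
    (e0 : (Magnet.attr a F).RepresentableBy Z0) (j : ZN ⟶ Z0)
    (hj : ∀ (T : Over S) (z : T ⟶ ZN), e0.homEquiv (z ≫ j) = (Magnet.attrFace a hF).app (op T) (eN.homEquiv z)) :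
    (∀ (K : Type u) [Field K] (k : Spec (CommRingCat.of K) ⟶ Z0.left),
        ConnectedSpace ↥(Limits.pullback j.left k)) ∧
      Function.Bijective (Continuous.connectedComponentsMap (Scheme.Hom.continuous j.left)) := by
  -- the section
  let s : Z0 ⟶ ZN := eN.homEquiv.symm ((Magnet.attrMap a hF.le).app (op Z0) (e0.homEquiv (𝟙 Z0)))
  have hs : ∀ {T : Over S} (w : T ⟶ Z0), eN.homEquiv (w ≫ s) = (Magnet.attrMap a hF.le).app (op T) (e0.homEquiv w) := by
    intro T w
    rw [eN.homEquiv_comp, Equiv.apply_symm_apply, e0.homEquiv_eq w]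
    exact (NatTrans.naturality_apply (Magnet.attrMap a hF.le) w.op _).symm
  have hsj : s ≫ j = 𝟙 Z0 := by
    apply e0.homEquiv.injective
    rw [hj, ← Category.id_comp s, hs]
    exact ConcreteCategory.congr_hom (congr_app (Magnet.attrMap_comp_attrFace a hF) (op Z0)) (e0.homEquiv (𝟙 Z0))
  have hconn : ∀ (K : Type u) [Field K] (k : Spec (CommRingCat.of K) ⟶ Z0.left),
      ConnectedSpace ↥(Limits.pullback j.left k) := by
    intro K _ k
    let σ : Spec (CommRingCat.of K) ⟶ pullback j.left k :=
      pullback.lift (k ≫ s.left) (𝟙 _) (by rw [Category.assoc, ← Over.comp_left, hsj, Over.id_left, Category.comp_id, Category.id_comp])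
    let pt0 : ↥(pullback j.left k) := σ default
    have key : ∀ p, p ∈ connectedComponent pt0 := by
      intro p
      let P := pullback j.left k
      let L := P.residueField p
      let ip : Spec L ⟶ P := P.fromSpecResidueField p
      let T : Over S := Over.mk (ip ≫ pullback.fst j.left k ≫ ZN.hom)
      let z : T ⟶ ZN := Over.homMk (ip ≫ pullback.fst j.left k) (Category.assoc _ _ _)
      let x := eN.homEquiv z
      let π₀ : Spec (CommRingCat.of (Polynomial L)) ⟶ Spec L := Spec.map (CommRingCat.ofHom (Polynomial.C : ↥L →+* _))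
      let T' : Over S := Over.mk (π₀ ≫ T.hom)
      let π : T' ⟶ T := Over.homMk π₀ rfl
      let c : Γ(T'.left, ⊤) := (Scheme.ΓSpecIso (CommRingCat.of (Polynomial L))).inv Polynomial.X
      let h : T' ⟶ ZN := eN.homEquiv.symm (delta' a d T' ((Magnet.attr a N).map π.op x) c)
      have hhj : h ≫ j = π ≫ z ≫ j := by
        apply e0.homEquiv.injective
        rw [hj, Equiv.apply_symm_apply, attrFace_delta' a hF d hd, ← Category.assoc, hj, eN.homEquiv_comp]
      let ev₀ : ↥L → (Spec L ⟶ Spec (CommRingCat.of (Polynomial L))) := fun v =>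
        Spec.map (CommRingCat.ofHom (Polynomial.evalRingHom v))
      have hev₀ : ∀ v : L, ev₀ v ≫ π₀ = 𝟙 _ := by
        intro v
        rw [← Spec.map_comp]
        rw [show (CommRingCat.ofHom (Polynomial.C : ↥L →+* _) ≫ CommRingCat.ofHom (Polynomial.evalRingHom v)) = 𝟙 _ from
          CommRingCat.hom_ext (RingHom.ext fun r => Polynomial.eval_C)]
        exact Spec.map_id _
      let ev : ↥L → (T ⟶ T') := fun v => Over.homMk (ev₀ v) (by
        change ev₀ v ≫ π₀ ≫ T.hom = T.hom
        rw [← Category.assoc, hev₀, Category.id_comp])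
      have hevπ : ∀ v, ev v ≫ π = 𝟙 T := fun v => Over.OverMorphism.ext (hev₀ v)
      have hc : ∀ v : L, (ev v).left.appTop c = (Scheme.ΓSpecIso L).inv v := by
        intro v
        have := ConcreteCategory.congr_hom (Scheme.ΓSpecIso_inv_naturality
          (CommRingCat.ofHom (Polynomial.evalRingHom v) : CommRingCat.of (Polynomial L) ⟶ L)) Polynomial.X
        refine Eq.trans ?_ (this.symm.trans ?_)
        · rfl
        · exact congr_arg (Scheme.ΓSpecIso L).inv Polynomial.eval_X
      have hev : ∀ v : L, eN.homEquiv (ev v ≫ h) = delta' a d T x ((Scheme.ΓSpecIso L).inv v) := by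
        intro v
        rw [eN.homEquiv_comp, Equiv.apply_symm_apply, ← delta'_naturality, hc, ← Functor.map_comp_apply, ← op_comp, hevπ, op_id,
          Functor.map_id_apply]
      have h1 : ev 1 ≫ h = z := by
        apply eN.homEquiv.injective
        rw [hev, map_one, delta'_one]
      have h0 : ev 0 ≫ h = (z ≫ j) ≫ s := by
        apply eN.homEquiv.injective
        rw [hev, map_zero, delta'_zero a hF d hd, hs, hj]
      let H : Spec (CommRingCat.of (Polynomial L)) ⟶ P := pullback.lift h.left (π₀ ≫ ip ≫ pullback.snd j.left k) (by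
        have := congr_arg CommaMorphism.left hhj
        simp only [Over.comp_left, π, z, Over.homMk_left, Category.assoc] at this
        rw [this, Category.assoc, Category.assoc, pullback.condition])
      have H1 : ev₀ 1 ≫ H = ip := by
        apply pullback.hom_ext
        · rw [Category.assoc, pullback.lift_fst]
          exact congr_arg CommaMorphism.left h1
        · rw [Category.assoc, pullback.lift_snd, ← Category.assoc, hev₀, Category.id_comp]
      have H0 : ev₀ 0 ≫ H = (ip ≫ pullback.snd j.left k) ≫ σ := by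
        apply pullback.hom_ext
        · rw [Category.assoc, pullback.lift_fst, Category.assoc, show σ ≫ pullback.fst j.left k = k ≫ s.left from pullback.lift_fst _ _ _]
          refine (congr_arg CommaMorphism.left h0).trans ?_
          change ((ip ≫ pullback.fst j.left k) ≫ j.left) ≫ s.left = _
          simp only [Category.assoc]
          rw [pullback.condition_assoc]
        · rw [Category.assoc, pullback.lift_snd, ← Category.assoc, hev₀, Category.id_comp, Category.assoc,
            show σ ≫ pullback.snd j.left k = 𝟙 _ from pullback.lift_snd _ _ _, Category.comp_id]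
      have hpre : _root_.IsPreconnected (Set.range H) := isPreconnected_range H.continuous
      have hp : p ∈ Set.range H := by
        refine ⟨ev₀ 1 default, ?_⟩
        rw [← Scheme.Hom.comp_apply, H1]
        exact P.fromSpecResidueField_apply p _
      have h0' : pt0 ∈ Set.range H := by
        refine ⟨ev₀ 0 default, ?_⟩
        rw [← Scheme.Hom.comp_apply, H0, Scheme.Hom.comp_apply]
        exact congr_arg σ (Subsingleton.elim (α := ↥(Spec (CommRingCat.of K))) _ _)
      exact hpre.subset_connectedComponent h0' hp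
    exact connectedSpace_iff_connectedComponent.mpr ⟨pt0, Set.eq_univ_of_forall key⟩
  refine ⟨hconn, ?_, ?_⟩
  · have hsj' : ∀ x : ↥ZN.left, ((s.left (j.left x) : ↥ZN.left) : _root_.ConnectedComponents ↥ZN.left) = x := by
      intro x
      rw [_root_.ConnectedComponents.coe_eq_coe']
      let k := Z0.left.fromSpecResidueField (j.left x)
      haveI := hconn _ k
      have hr : Set.range (pullback.fst j.left k) = j.left ⁻¹' {j.left x} := by
        rw [Scheme.Pullback.range_fst, Scheme.range_fromSpecResidueField]
      refine (isPreconnected_range (pullback.fst j.left k).continuous).subset_connectedComponent ?_ ?_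
      · rw [hr]; rfl
      · rw [hr, Set.mem_preimage, Set.mem_singleton_iff, ← Scheme.Hom.comp_apply, ← Over.comp_left, hsj]
        rfl
    refine Function.LeftInverse.injective (g := Continuous.connectedComponentsMap s.left.continuous) fun q => ?_
    obtain ⟨x, rfl⟩ := _root_.ConnectedComponents.surjective_coe q
    exact hsj' x
  · intro q
    obtain ⟨y, rfl⟩ := _root_.ConnectedComponents.surjective_coe q
    refine ⟨(s.left y : ↥ZN.left), ?_⟩
    change ((j.left (s.left y) : ↥Z0.left) : _root_.ConnectedComponents ↥Z0.left) = y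
    rw [← Scheme.Hom.comp_apply, ← Over.comp_left, hsj]
    rfl

end

end Groth.Agent.MagnetSmooth
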