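import Mathlib
import Groth.Agent.MagnetSmooth.Face

/-! The pushout of a face and a thickened magnet, with its action. -/

set_option autoImplicit false
set_option linter.style.haveILetI false
set_option backward.isDefEq.respectTransparency.types false
set_option maxHeartbeats 2000000
set_option synthInstance.maxHeartbeats 400000
universe u

open CategoryTheory CategoryTheory.Limits MonoidalCategory CartesianMonoidalCategory MonObj AlgebraicGeometry Opposite

namespace Groth.Agent.MagnetSmooth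

open Groth.Agent.MagnetHom (GA chg faceGA faceGA_single gaff_faceMap)
open Groth.Agent.FerrandPush (Cart)

noncomputable section

variable {S : Scheme.{u}}

theorem whisker_ext₂ {C B A' A : Type u} [CommRing C] [CommRing B] [CommRing A'] [CommRing A] (E : Cart C B A' A)
    (str : Spec (CommRingCat.of C) ⟶ S) (K : Type) [AddCommMonoid K] {X : Over S}
    (h h' : Magnet.AMonS S K ⊗ Magnet.AMonS S K ⊗ Over.mk str ⟶ X)
    (hA : (Magnet.AMonS S K ◁ Magnet.AMonS S K ◁ legA E str) ≫ h = (Magnet.AMonS S K ◁ Magnet.AMonS S K ◁ legA E str) ≫ h')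
    (hB : (Magnet.AMonS S K ◁ Magnet.AMonS S K ◁ legB E str) ≫ h = (Magnet.AMonS S K ◁ Magnet.AMonS S K ◁ legB E str) ≫ h') :
    h = h' := by
  obtain ⟨E', e₁, e₂, -, -⟩ := exists_cart_ga E K
  rw [← cancel_epi (Magnet.AMonS S K ◁ gE C str K)]
  have step : ∀ {D : Type u} [CommRing D] (φ : C →+* D) (ψ : GA C K →+* GA D K),
      ψ = MonoidAlgebra.mapRingHom (Multiplicative K) φ →
      (Magnet.AMonS S K ◁ Magnet.AMonS S K ◁ chg C str D φ) ≫ h =
        (Magnet.AMonS S K ◁ Magnet.AMonS S K ◁ chg C str D φ) ≫ h' →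
      (Magnet.AMonS S K ◁ chg (GA C K) _ (GA D K) ψ) ≫ (Magnet.AMonS S K ◁ gE C str K) ≫ h =
        (Magnet.AMonS S K ◁ chg (GA C K) _ (GA D K) ψ) ≫ (Magnet.AMonS S K ◁ gE C str K) ≫ h' := by
    intro D _ φ ψ hψ e
    subst hψ
    let c : Over.mk (Spec.map (CommRingCat.ofHom (MonoidAlgebra.mapRingHom (Multiplicative K) φ)) ≫
          Spec.map (CommRingCat.ofHom (MonoidAlgebra.singleOneRingHom : C →+* GA C K)) ≫ str) ≅
        Over.mk (Spec.map (CommRingCat.ofHom (MonoidAlgebra.singleOneRingHom : D →+* GA D K)) ≫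
          Spec.map (CommRingCat.ofHom φ) ≫ str) :=
      Over.isoMk (Iso.refl _) (by
        change 𝟙 _ ≫ Spec.map _ ≫ Spec.map _ ≫ str = Spec.map _ ≫ Spec.map _ ≫ str
        rw [Category.id_comp]
        simp only [← Category.assoc, ← Spec.map_comp]
        exact congrArg (fun k => Spec.map k ≫ str) (map_ini _ φ).symm)
    have hn : chg (GA C K) _ (GA D K) (MonoidAlgebra.mapRingHom (Multiplicative K) φ) ≫ gE C str K =
        c.hom ≫ gE D _ K ≫ (Magnet.AMonS S K ◁ chg C str D φ) := by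
      rw [← gE_natural (chg C str D φ) φ rfl K
        (c.inv ≫ chg (GA C K) _ (GA D K) (MonoidAlgebra.mapRingHom (Multiplicative K) φ)) (Category.id_comp _),
        Category.assoc, Iso.hom_inv_id_assoc]
    simp only [← MonoidalCategory.whiskerLeft_comp_assoc, hn]
    simp only [MonoidalCategory.whiskerLeft_comp_assoc, e]
  refine whisker_ext E' _ K _ _ ?_ ?_
  · exact step E.snd E'.snd e₂ hA
  · exact step E.fst E'.fst e₁ hB

variable {M : Type} [AddCommGroup M]

theorem exists_face_pushout {N F : AddSubmonoid M} (hF : Magnet.IsFace N F) (A B : Type u) [CommRing A] [CommRing B]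
    (φ : A →+* B) (hφ : Function.Surjective φ) (str : Spec (CommRingCat.of A) ⟶ S) :
    ∃ (P : Over S) (i₁ : Magnet.AMonS S F ⊗ Over.mk str ⟶ P)
      (i₂ : Magnet.AMonS S N ⊗ Over.mk (Spec.map (CommRingCat.ofHom φ) ≫ str) ⟶ P)
      (aP : Magnet.MonAct (Magnet.AMonS S M) P),
      IsAffine P.left ∧
      IsPushout (Magnet.AMonS S F ◁ chg A str B φ) (Magnet.AMonS.faceMap S hF ▷ _) i₁ i₂ ∧
      Magnet.MonAct.IsEquivariant ((Magnet.subAct S M F).prod (Magnet.MonAct.trivial (Magnet.AMonS S M) _)) aP i₁ ∧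
      Magnet.MonAct.IsEquivariant ((Magnet.subAct S M N).prod (Magnet.MonAct.trivial (Magnet.AMonS S M) _)) aP i₂ ∧
      ∀ {X : Over S} (h h' : Magnet.AMonS S M ⊗ P ⟶ X),
        (Magnet.AMonS S M ◁ i₁) ≫ h = (Magnet.AMonS S M ◁ i₁) ≫ h' →
        (Magnet.AMonS S M ◁ i₂) ≫ h = (Magnet.AMonS S M ◁ i₂) ≫ h' → h = h' := by
  classical
  let qA := φ
  let t := chg A str B qA
  let T : Over S := Over.mk (Spec.map (CommRingCat.ofHom qA) ≫ str)
  let R := GA A N
  let a₁ : R →+* GA A F := faceGA A hF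
  let a₂ : R →+* GA B N := MonoidAlgebra.mapRingHom (Multiplicative N) qA
  let K : Ideal R := RingHom.ker a₁ ⊓ RingHom.ker a₂
  let q : R →+* R ⧸ K := Ideal.Quotient.mk K
  let inc : ∀ (C : Type u) [CommRing C], GA C F →+* GA C N := fun C _ =>
    MonoidAlgebra.mapDomainRingHom C (AddMonoidHom.toMultiplicative (AddSubmonoid.inclusion hF.le))
  have hface : ∀ (C : Type u) [CommRing C] (z : GA C F), faceGA C hF (inc C z) = z := fun C _ z =>
    DFunLike.congr_fun (Magnet.faceAlgHom_comp_mapDomain C hF) z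
  have hincmap : ∀ z : GA A F, MonoidAlgebra.mapRingHom (Multiplicative N) qA (inc A z) =
      inc B (MonoidAlgebra.mapRingHom (Multiplicative F) qA z) := fun z => by
    induction z using MonoidAlgebra.induction_linear with
    | zero => simp
    | add p r hp hr => simp only [map_add, hp, hr]
    | single m c => simp [inc]
  let E : Cart (R ⧸ K) (GA B N) (GA A F) (GA B F) :=
    { fst := Ideal.Quotient.lift K a₂ fun r hr => hr.2
      snd := Ideal.Quotient.lift K a₁ fun r hr => hr.1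
      p := MonoidAlgebra.mapRingHom (Multiplicative F) qA
      q := faceGA B hF
      surj := fun w => by
        induction w using MonoidAlgebra.induction_linear with
        | zero => exact ⟨0, map_zero _⟩
        | add p r hp hr =>
          obtain ⟨p, rfl⟩ := hp
          obtain ⟨r, rfl⟩ := hr
          exact ⟨p + r, map_add _ _ _⟩
        | single m c =>
          obtain ⟨c, rfl⟩ := hφ c
          exact ⟨MonoidAlgebra.single m c, MonoidAlgebra.mapRingHom_single _ _ _⟩
      w := fun c => by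
        obtain ⟨c, rfl⟩ := Ideal.Quotient.mk_surjective c
        exact (map_faceGA qA hF c).symm
      ext' := fun p r hB hA => by
        obtain ⟨p, rfl⟩ := Ideal.Quotient.mk_surjective p
        obtain ⟨r, rfl⟩ := Ideal.Quotient.mk_surjective r
        refine Ideal.Quotient.eq.mpr ⟨?_, ?_⟩
        · exact RingHom.mem_ker.mpr ((map_sub _ _ _).trans (sub_eq_zero.mpr hA))
        · exact RingHom.mem_ker.mpr ((map_sub _ _ _).trans (sub_eq_zero.mpr hB))
      lift' := fun b c hbc => by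
        obtain ⟨b', rfl⟩ : ∃ b', a₂ b' = b := by
          induction b using MonoidAlgebra.induction_linear generalizing c with
          | zero => exact ⟨0, map_zero _⟩
          | add p r hp hr =>
            obtain ⟨cp, hcp⟩ := (fun w => show ∃ c, MonoidAlgebra.mapRingHom (Multiplicative F) qA c = w from by
              induction w using MonoidAlgebra.induction_linear with
              | zero => exact ⟨0, map_zero _⟩
              | add p r hp hr =>
                obtain ⟨p, rfl⟩ := hp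
                obtain ⟨r, rfl⟩ := hr
                exact ⟨p + r, map_add _ _ _⟩
              | single m c =>
                obtain ⟨c, rfl⟩ := hφ c
                exact ⟨MonoidAlgebra.single m c, MonoidAlgebra.mapRingHom_single _ _ _⟩) (faceGA B hF p)
            obtain ⟨p, rfl⟩ := hp cp hcp.symm
            obtain ⟨r, rfl⟩ := hr (c - cp) (by rw [map_sub, hcp, ← hbc, map_add, add_sub_cancel_left])
            exact ⟨p + r, map_add _ _ _⟩
          | single m d =>
            obtain ⟨d, rfl⟩ := hφ d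
            exact ⟨MonoidAlgebra.single m d, MonoidAlgebra.mapRingHom_single _ _ _⟩
        refine ⟨Ideal.Quotient.mk K (inc A c + (b' - inc A (a₁ b'))), ?_, ?_⟩
        · change a₂ _ = a₂ b'
          rw [map_add, map_sub]
          change MonoidAlgebra.mapRingHom _ qA (inc A c) + (_ - MonoidAlgebra.mapRingHom _ qA (inc A (a₁ b'))) = _
          rw [hincmap, hincmap, map_faceGA, ← hbc]
          change inc B _ + (a₂ b' - inc B _) = a₂ b'
          rw [add_sub_cancel]
        · change a₁ _ = c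
          rw [map_add, map_sub]
          change faceGA A hF (inc A c) + (a₁ b' - faceGA A hF (inc A (a₁ b'))) = c
          rw [hface, hface, sub_self, add_zero] }
  let strR : Spec (CommRingCat.of R) ⟶ S :=
    Spec.map (CommRingCat.ofHom (MonoidAlgebra.singleOneRingHom : A →+* R)) ≫ str
  let strD : Spec (CommRingCat.of (R ⧸ K)) ⟶ S := Spec.map (CommRingCat.ofHom q) ≫ strR
  -- the two legs as products
  have hiniF : CommRingCat.ofHom (MonoidAlgebra.singleOneRingHom : A →+* R) ≫ CommRingCat.ofHom a₁ =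
      CommRingCat.ofHom (MonoidAlgebra.singleOneRingHom : A →+* GA A F) := by
    refine CommRingCat.hom_ext (RingHom.ext fun c => ?_)
    change faceGA A hF (MonoidAlgebra.single 1 c) = MonoidAlgebra.single 1 c
    rw [faceGA_single, dif_pos (show (((Multiplicative.toAdd (1 : Multiplicative N)) : N) : M) ∈ F from F.zero_mem)]
    rfl
  have hsA : Spec.map (CommRingCat.ofHom E.snd) ≫ strD =
      Spec.map (CommRingCat.ofHom (MonoidAlgebra.singleOneRingHom : A →+* GA A F)) ≫ str := by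
    simp only [strD, strR, ← Category.assoc, ← Spec.map_comp]
    exact congrArg (fun k => Spec.map k ≫ str) hiniF
  have hsB : Spec.map (CommRingCat.ofHom E.fst) ≫ strD = Spec.map (CommRingCat.ofHom
      (MonoidAlgebra.singleOneRingHom : B →+* GA B N)) ≫ Spec.map (CommRingCat.ofHom qA) ≫ str := by
    simp only [strD, strR, ← Category.assoc, ← Spec.map_comp]
    exact congrArg (fun k => Spec.map k ≫ str) (map_ini _ qA)
  let c₁ : Over.mk (Spec.map (CommRingCat.ofHom E.snd) ≫ strD) ≅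
      Over.mk (Spec.map (CommRingCat.ofHom (MonoidAlgebra.singleOneRingHom : A →+* GA A F)) ≫ str) :=
    Over.isoMk (Iso.refl _) ((Category.id_comp _).trans hsA.symm)
  let c₂ : Over.mk (Spec.map (CommRingCat.ofHom E.fst) ≫ strD) ≅ Over.mk (Spec.map (CommRingCat.ofHom
      (MonoidAlgebra.singleOneRingHom : B →+* GA B N)) ≫ Spec.map (CommRingCat.ofHom qA) ≫ str) :=
    Over.isoMk (Iso.refl _) ((Category.id_comp _).trans hsB.symm)
  let ε₁ : Over.mk (Spec.map (CommRingCat.ofHom E.snd) ≫ strD) ≅ Magnet.AMonS S F ⊗ Over.mk str :=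
    c₁ ≪≫ asIso (gE A str F)
  let ε₂ : Over.mk (Spec.map (CommRingCat.ofHom E.fst) ≫ strD) ≅ Magnet.AMonS S N ⊗ T :=
    c₂ ≪≫ asIso (gE B (Spec.map (CommRingCat.ofHom qA) ≫ str) N)
  let str₀ : Spec (CommRingCat.of (GA B F)) ⟶ S := Spec.map (CommRingCat.ofHom
      (MonoidAlgebra.singleOneRingHom : B →+* GA B F)) ≫ Spec.map (CommRingCat.ofHom qA) ≫ str
  let ε₀ := asIso (gE B (Spec.map (CommRingCat.ofHom qA) ≫ str) F)
  let j₁ : Over.mk str₀ ⟶ Over.mk (Spec.map (CommRingCat.ofHom E.snd) ≫ strD) :=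
    Over.homMk (Spec.map (CommRingCat.ofHom E.p)) (by
      change Spec.map _ ≫ Spec.map _ ≫ strD = str₀
      rw [hsA]
      simp only [str₀, ← Category.assoc, ← Spec.map_comp]
      exact congrArg (fun k => Spec.map k ≫ str) (map_ini _ qA))
  let j₂ : Over.mk str₀ ⟶ Over.mk (Spec.map (CommRingCat.ofHom E.fst) ≫ strD) :=
    Over.homMk (Spec.map (CommRingCat.ofHom E.q)) (by
      change Spec.map _ ≫ Spec.map _ ≫ strD = str₀
      rw [hsB]
      simp only [str₀, ← Category.assoc, ← Spec.map_comp]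
      refine congrArg (fun k => Spec.map k ≫ str) ?_
      refine (Category.assoc _ _ _).trans
        (congrArg (CommRingCat.ofHom qA ≫ ·) (CommRingCat.hom_ext (RingHom.ext fun c => ?_)))
      change faceGA B hF (MonoidAlgebra.single 1 c) = MonoidAlgebra.single 1 c
      rw [faceGA_single, dif_pos (show (((Multiplicative.toAdd (1 : Multiplicative N)) : N) : M) ∈ F from F.zero_mem)]
      rfl)
  have hj₁ : j₁ ≫ ε₁.hom = ε₀.hom ≫ (Magnet.AMonS S F ◁ t) := by
    refine (Category.assoc _ _ _).symm.trans (gE_natural t qA rfl F (j₁ ≫ c₁.hom) ?_)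
    exact Category.comp_id _
  have face_gE : ∀ (C : Type u) [CommRing C] (s : Spec (CommRingCat.of C) ⟶ S)
      (c : Over.mk (Spec.map (CommRingCat.ofHom (MonoidAlgebra.singleOneRingHom : C →+* GA C F)) ≫ s) ⟶
        Over.mk (Spec.map (CommRingCat.ofHom (MonoidAlgebra.singleOneRingHom : C →+* GA C N)) ≫ s)),
      c.left = Spec.map (CommRingCat.ofHom (faceGA C hF)) →
      c ≫ gE C s N = gE C s F ≫ (Magnet.AMonS.faceMap S hF ▷ Over.mk s) := by
    intro C _ s c hc
    apply Over.OverMorphism.ext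
    rw [Over.comp_left, Over.comp_left, hc, show (gE C s N).left = _ from lift_pt_of C s N,
      show (gE C s F).left = _ from lift_pt_of C s F]
    exact (gaff_faceMap C s hF).symm
  have hj₂ : j₂ ≫ ε₂.hom = ε₀.hom ≫ (Magnet.AMonS.faceMap S hF ▷ T) := by
    refine (Category.assoc _ _ _).symm.trans (face_gE B _ (j₂ ≫ c₂.hom) ?_)
    exact Category.comp_id _
  have hjj : j₁ ≫ legA E strD = j₂ ≫ legB E strD := Over.OverMorphism.ext E.isPushout_Spec.w
  let ρT := (Magnet.subAct S M N).prod (Magnet.MonAct.trivial (Magnet.AMonS S M) T)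
  let ρF := (Magnet.subAct S M F).prod (Magnet.MonAct.trivial (Magnet.AMonS S M) (Over.mk str))
  let ρ₀ := (Magnet.subAct S M F).prod (Magnet.MonAct.trivial (Magnet.AMonS S M) T)
  let i₁ := ε₁.inv ≫ legA E strD
  let i₂ := ε₂.inv ≫ legB E strD
  have hw : (Magnet.AMonS S F ◁ t) ≫ i₁ = (Magnet.AMonS.faceMap S hF ▷ T) ≫ i₂ := by
    rw [← cancel_epi ε₀.hom, ← reassoc_of% hj₁, ← reassoc_of% hj₂, Iso.hom_inv_id_assoc, Iso.hom_inv_id_assoc, hjj]
  have hext : ∀ {X : Over S} (h h' : Over.mk strD ⟶ X), i₁ ≫ h = i₁ ≫ h' → i₂ ≫ h = i₂ ≫ h' → h = h' := by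
    intro X h h' e₁ e₂
    rw [Category.assoc, Category.assoc, Iso.cancel_iso_inv_left] at e₁ e₂
    exact Over.OverMorphism.ext
      (E.isPushout_Spec.hom_ext (congrArg CommaMorphism.left e₁) (congrArg CommaMorphism.left e₂))
  have hwext : ∀ {X : Over S} (h h' : Magnet.AMonS S M ⊗ Over.mk strD ⟶ X),
      (Magnet.AMonS S M ◁ i₁) ≫ h = (Magnet.AMonS S M ◁ i₁) ≫ h' →
      (Magnet.AMonS S M ◁ i₂) ≫ h = (Magnet.AMonS S M ◁ i₂) ≫ h' → h = h' := by
    intro X h h' e₁ e₂
    refine whisker_ext E strD M h h' ?_ ?_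
    · have h₁ := congrArg ((Magnet.AMonS S M ◁ ε₁.hom) ≫ ·) e₁
      simpa only [i₁, ← MonoidalCategory.whiskerLeft_comp_assoc, Iso.hom_inv_id_assoc] using h₁
    · have h₁ := congrArg ((Magnet.AMonS S M ◁ ε₂.hom) ≫ ·) e₂
      simpa only [i₂, ← MonoidalCategory.whiskerLeft_comp_assoc, Iso.hom_inv_id_assoc] using h₁
  obtain ⟨m, hm₁, hm₂⟩ := whisker_desc E strD M
    ((Magnet.AMonS S M ◁ ε₁.hom) ≫ ρF.act ≫ i₁) ((Magnet.AMonS S M ◁ ε₂.hom) ≫ ρT.act ≫ i₂) j₁ j₂ rfl rfl (by
      rw [← MonoidalCategory.whiskerLeft_comp_assoc, hj₁, ← MonoidalCategory.whiskerLeft_comp_assoc, hj₂,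
        MonoidalCategory.whiskerLeft_comp_assoc, MonoidalCategory.whiskerLeft_comp_assoc,
        ← reassoc_of% (show ρ₀.act ≫ (Magnet.AMonS S F ◁ t) = _ from
          Magnet.MonAct.prod_trivial_act_whiskerLeft (Magnet.subAct S M F) t),
        ← reassoc_of% (isEquivariant_faceMap_whiskerRight hF T), hw])
  have hm₁' : (Magnet.AMonS S M ◁ i₁) ≫ m = ρF.act ≫ i₁ := by
    rw [MonoidalCategory.whiskerLeft_comp_assoc, hm₁, ← MonoidalCategory.whiskerLeft_comp_assoc, Iso.inv_hom_id,
      MonoidalCategory.whiskerLeft_id, Category.id_comp]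
  have hm₂' : (Magnet.AMonS S M ◁ i₂) ≫ m = ρT.act ≫ i₂ := by
    rw [MonoidalCategory.whiskerLeft_comp_assoc, hm₂, ← MonoidalCategory.whiskerLeft_comp_assoc, Iso.inv_hom_id,
      MonoidalCategory.whiskerLeft_id, Category.id_comp]
  have one_act : (η[Magnet.AMonS S M] ▷ Over.mk strD) ≫ m = (λ_ (Over.mk strD)).hom := by
    rw [← cancel_epi (λ_ (Over.mk strD)).inv, Iso.inv_hom_id]
    refine hext _ _ ?_ ?_
    · rw [leftUnitor_inv_naturality_assoc, whisker_exchange_assoc, hm₁',
        reassoc_of% ρF.one_act, Iso.inv_hom_id_assoc, Category.comp_id]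
    · rw [leftUnitor_inv_naturality_assoc, whisker_exchange_assoc, hm₂',
        reassoc_of% ρT.one_act, Iso.inv_hom_id_assoc, Category.comp_id]
  have hwwext : ∀ {X : Over S} (h h' : (Magnet.AMonS S M ⊗ Magnet.AMonS S M) ⊗ Over.mk strD ⟶ X),
      ((Magnet.AMonS S M ⊗ Magnet.AMonS S M) ◁ i₁) ≫ h = ((Magnet.AMonS S M ⊗ Magnet.AMonS S M) ◁ i₁) ≫ h' →
      ((Magnet.AMonS S M ⊗ Magnet.AMonS S M) ◁ i₂) ≫ h = ((Magnet.AMonS S M ⊗ Magnet.AMonS S M) ◁ i₂) ≫ h' → h = h' := by
    intro X h h' e₁ e₂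
    rw [← cancel_epi (α_ _ _ _).inv]
    refine whisker_ext₂ E strD M _ _ ?_ ?_
    · rw [associator_inv_naturality_right_assoc, associator_inv_naturality_right_assoc]
      congr 1
      have h₁ := congrArg (((Magnet.AMonS S M ⊗ Magnet.AMonS S M) ◁ ε₁.hom) ≫ ·) e₁
      simpa only [i₁, ← MonoidalCategory.whiskerLeft_comp_assoc, Iso.hom_inv_id_assoc] using h₁
    · rw [associator_inv_naturality_right_assoc, associator_inv_naturality_right_assoc]
      congr 1
      have h₁ := congrArg (((Magnet.AMonS S M ⊗ Magnet.AMonS S M) ◁ ε₂.hom) ≫ ·) e₂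
      simpa only [i₂, ← MonoidalCategory.whiskerLeft_comp_assoc, Iso.hom_inv_id_assoc] using h₁
  have mul_act : (μ[Magnet.AMonS S M] ▷ Over.mk strD) ≫ m =
      (α_ _ _ _).hom ≫ (Magnet.AMonS S M ◁ m) ≫ m := by
    refine hwwext _ _ ?_ ?_
    · rw [whisker_exchange_assoc, hm₁', reassoc_of% ρF.mul_act, associator_naturality_right_assoc,
        ← MonoidalCategory.whiskerLeft_comp_assoc, hm₁', MonoidalCategory.whiskerLeft_comp_assoc, hm₁']
    · rw [whisker_exchange_assoc, hm₂', reassoc_of% ρT.mul_act, associator_naturality_right_assoc,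
        ← MonoidalCategory.whiskerLeft_comp_assoc, hm₂', MonoidalCategory.whiskerLeft_comp_assoc, hm₂']
  have hdesc : ∀ {X : Over S} (f₁ : Magnet.AMonS S F ⊗ Over.mk str ⟶ X) (f₂ : Magnet.AMonS S N ⊗ T ⟶ X),
      (Magnet.AMonS S F ◁ t) ≫ f₁ = (Magnet.AMonS.faceMap S hF ▷ T) ≫ f₂ →
      ∃ l, i₁ ≫ l = f₁ ∧ i₂ ≫ l = f₂ := by
    intro X f₁ f₂ h
    obtain ⟨l, h₁, h₂⟩ := over_desc E strD (ε₁.hom ≫ f₁) (ε₂.hom ≫ f₂) (by
      have e' : j₁ ≫ ε₁.hom ≫ f₁ = j₂ ≫ ε₂.hom ≫ f₂ := by rw [reassoc_of% hj₁, reassoc_of% hj₂, h]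
      exact congrArg CommaMorphism.left e')
    exact ⟨l, by rw [Category.assoc, h₁, Iso.inv_hom_id_assoc], by rw [Category.assoc, h₂, Iso.inv_hom_id_assoc]⟩
  exact ⟨Over.mk strD, i₁, i₂, { act := m, one_act := one_act, mul_act := mul_act },
    inferInstanceAs (IsAffine (Spec _)),
    ⟨⟨hw⟩, ⟨PushoutCocone.IsColimit.mk hw (fun s => (hdesc s.inl s.inr s.condition).choose)
      (fun s => (hdesc s.inl s.inr s.condition).choose_spec.1) (fun s => (hdesc s.inl s.inr s.condition).choose_spec.2)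
      (fun s l h₁ h₂ => hext _ _ (h₁.trans (hdesc s.inl s.inr s.condition).choose_spec.1.symm)
        (h₂.trans (hdesc s.inl s.inr s.condition).choose_spec.2.symm))⟩⟩,
    hm₁'.symm, hm₂'.symm, fun {X} h h' => hwext h h'⟩

end

end Groth.Agent.MagnetSmooth
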