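import Mathlib
import Groth.Agent.MagnetSmooth.FacePush
import Groth.Prelude.Def_MoreMor

/-! The pushout of a face along a first order thickening of an affine base. -/

set_option autoImplicit false
set_option linter.style.haveILetI false
set_option maxHeartbeats 1000000
universe u

open CategoryTheory CategoryTheory.Limits MonoidalCategory CartesianMonoidalCategory MonObj AlgebraicGeometry Opposite

namespace Groth.Agent.MagnetSmooth

noncomputable section

theorem exists_push_affine (T : Scheme.{u}) [IsAffine T] (M : Type) [AddCommGroup M] {N F : AddSubmonoid M}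
    (hF : Magnet.IsFace N F) (Tb : Over T) (hTb : MoreMor.IsFirstOrderThickening Tb.hom) :
    ∃ (P : Over T) (ν₁ : Magnet.AMonS T F ⟶ P) (ν₂ : Magnet.AMonS T N ⊗ Tb ⟶ P)
      (hP : IsPushout (CartesianMonoidalCategory.fst (Magnet.AMonS T F) Tb) (Magnet.AMonS.faceMap T hF ▷ Tb) ν₁ ν₂)
      (aP : Magnet.MonAct (Magnet.AMonS T M) P),
      IsAffine P.left ∧ Magnet.MonAct.IsEquivariant (Magnet.subAct T M F) aP ν₁ ∧
      Magnet.MonAct.IsEquivariant ((Magnet.subAct T M N).prod (Magnet.MonAct.trivial (Magnet.AMonS T M) Tb)) aP ν₂ ∧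
      ∀ (X : Over T) (aX : Magnet.MonAct (Magnet.AMonS T M) X) (f₁ : Magnet.AMonS T F ⟶ X)
        (f₂ : Magnet.AMonS T N ⊗ Tb ⟶ X)
        (w : CartesianMonoidalCategory.fst (Magnet.AMonS T F) Tb ≫ f₁ = (Magnet.AMonS.faceMap T hF ▷ Tb) ≫ f₂),
        Magnet.MonAct.IsEquivariant (Magnet.subAct T M F) aX f₁ →
        Magnet.MonAct.IsEquivariant ((Magnet.subAct T M N).prod (Magnet.MonAct.trivial (Magnet.AMonS T M) Tb)) aX f₂ →
        Magnet.MonAct.IsEquivariant aP aX (hP.desc f₁ f₂ w) := by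
  haveI : IsClosedImmersion Tb.hom := hTb.1.1
  haveI : IsAffine Tb.left := isAffine_of_isAffineHom Tb.hom
  let φ : Γ(T, ⊤) →+* Γ(Tb.left, ⊤) := Tb.hom.appTop.hom
  have hφ : Function.Surjective φ := Scheme.Hom.app_surjective Tb.hom ⊤ (isAffineOpen_top T)
  let str : Spec (CommRingCat.of Γ(T, ⊤)) ⟶ T := T.isoSpec.inv
  obtain ⟨P, i₁, i₂, aP, hA, hPO, he₁, he₂, hext⟩ :=
    exists_face_pushout hF Γ(T, ⊤) Γ(Tb.left, ⊤) φ hφ str
  let τ : Over.mk str ≅ 𝟙_ (Over T) := Over.isoMk T.isoSpec.symm (Category.comp_id _)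
  let σ : Over.mk (Spec.map (CommRingCat.ofHom φ) ≫ str) ≅ Tb :=
    Over.isoMk Tb.left.isoSpec.symm (Scheme.isoSpec_inv_naturality Tb.hom).symm
  let EF : Magnet.AMonS T F ⊗ Over.mk str ≅ Magnet.AMonS T F :=
    whiskerLeftIso (Magnet.AMonS T F) τ ≪≫ ρ_ (Magnet.AMonS T F)
  have hEF : EF.hom = fst _ _ :=
    (congrArg (_ ≫ ·) (rightUnitor_hom _)).trans (whiskerLeft_fst _ _)
  have hFT : ((Magnet.subAct T M F).prod (Magnet.MonAct.trivial (Magnet.AMonS T M) (Over.mk str))).act ≫ fst _ _ =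
      (Magnet.AMonS T M ◁ fst _ _) ≫ (Magnet.subAct T M F).act := by
    apply Magnet.hom_ext_lift₂
    intro T' g z
    rw [← lift_comp_fst_snd z]
    simp only [Magnet.MonAct.lift_prod_act_assoc, lift_fst, lift_whiskerLeft_assoc]
  have hP : IsPushout (CartesianMonoidalCategory.fst (Magnet.AMonS T F) Tb) (Magnet.AMonS.faceMap T hF ▷ Tb)
      (EF.inv ≫ i₁) ((Magnet.AMonS T N ◁ σ.inv) ≫ i₂) := by
    refine hPO.of_iso (whiskerLeftIso _ σ) EF (whiskerLeftIso _ σ) (Iso.refl _) ?_ ?_ ?_ ?_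
    · rw [hEF, whiskerLeftIso_hom, whiskerLeft_fst, whiskerLeft_fst]
    · simp only [whiskerLeftIso_hom]
      exact (whisker_exchange _ _).symm
    · simp
    · simp
  refine ⟨P, EF.inv ≫ i₁, (Magnet.AMonS T N ◁ σ.inv) ≫ i₂, hP, aP, hA, ?_, ?_, fun X aX f₁ f₂ w h₁ h₂ => ?_⟩
  · have : (Magnet.subAct T M F).act = (Magnet.AMonS T M ◁ EF.inv) ≫
        ((Magnet.subAct T M F).prod (Magnet.MonAct.trivial (Magnet.AMonS T M) (Over.mk str))).act ≫ EF.hom := by
      rw [hEF, hFT, ← hEF, ← MonoidalCategory.whiskerLeft_comp_assoc, Iso.inv_hom_id, MonoidalCategory.whiskerLeft_id,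
        Category.id_comp]
    change (Magnet.subAct T M F).act ≫ EF.inv ≫ i₁ = _
    rw [this, Category.assoc, Category.assoc, Iso.hom_inv_id_assoc, show _ ≫ i₁ = _ from he₁,
      MonoidalCategory.whiskerLeft_comp_assoc]
  · refine Magnet.MonAct.IsEquivariant.comp ?_ he₂
    exact Magnet.MonAct.prod_trivial_act_whiskerLeft (Magnet.subAct T M N) σ.inv
  · have d₁ : i₁ ≫ hP.desc f₁ f₂ w = EF.hom ≫ f₁ := by
      rw [← Iso.inv_comp_eq, ← Category.assoc, hP.inl_desc]
    have d₂ : i₂ ≫ hP.desc f₁ f₂ w = (Magnet.AMonS T N ◁ σ.hom) ≫ f₂ := by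
      rw [← cancel_epi (Magnet.AMonS T N ◁ σ.inv), ← Category.assoc, hP.inr_desc,
        ← MonoidalCategory.whiskerLeft_comp_assoc, Iso.inv_hom_id, MonoidalCategory.whiskerLeft_id, Category.id_comp]
    refine hext _ _ ?_ ?_
    · rw [← reassoc_of% (show _ = (Magnet.AMonS T M ◁ i₁) ≫ aP.act from he₁), d₁, hEF, reassoc_of% hFT,
        show (Magnet.subAct T M F).act ≫ f₁ = _ from h₁, ← MonoidalCategory.whiskerLeft_comp_assoc,
        ← MonoidalCategory.whiskerLeft_comp_assoc, d₁, hEF]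
    · rw [← reassoc_of% (show _ = (Magnet.AMonS T M ◁ i₂) ≫ aP.act from he₂), d₂,
        reassoc_of% (Magnet.MonAct.prod_trivial_act_whiskerLeft (Magnet.subAct T M N) σ.hom),
        show _ ≫ f₂ = _ from h₂, ← MonoidalCategory.whiskerLeft_comp_assoc, ← MonoidalCategory.whiskerLeft_comp_assoc, d₂]

end

end Groth.Agent.MagnetSmooth
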