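import Mathlib
import Groth.Agent.MagnetSmooth.Basic
import Groth.Agent.AffLim.Presentation

/-! The map of attractors induced by a morphism locally of finite presentation is locally of finite presentation. -/

set_option autoImplicit false
set_option linter.style.haveILetI false
set_option backward.isDefEq.respectTransparency.types false
set_option maxHeartbeats 2000000
set_option synthInstance.maxHeartbeats 400000
universe u

open CategoryTheory CategoryTheory.Limits MonoidalCategory CartesianMonoidalCategory MonObj AlgebraicGeometry Opposite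

namespace Groth.Agent.MagnetSmooth

open Groth.Agent.MagnetHom (GA)

noncomputable section

section Colimit

variable {J : Type u} [Preorder J] (F : J ⥤ CommRingCat.{u}) (K : Type) [AddCommMonoid K]

/-- The monoid algebras of a system of rings. -/
def gaF : J ⥤ CommRingCat.{u} where
  obj j := CommRingCat.of (GA (F.obj j) K)
  map h := CommRingCat.ofHom (MonoidAlgebra.mapRingHom (Multiplicative K) (F.map h).hom)
  map_id j := CommRingCat.hom_ext (RingHom.ext fun x => by ext; simp)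
  map_comp a b := CommRingCat.hom_ext (RingHom.ext fun x => by ext; simp)

/-- The monoid algebras of a cocone of rings. -/
def gaC (c : Cocone F) : Cocone (gaF F K) where
  pt := CommRingCat.of (GA c.pt K)
  «ι» :=
    { app := fun j => CommRingCat.ofHom (MonoidAlgebra.mapRingHom (Multiplicative K) (c.ι.app j).hom)
      naturality := fun i j h => by
        refine CommRingCat.hom_ext (RingHom.ext fun (x : GA (F.obj i) K) => MonoidAlgebra.coeff_injective ?_)
        ext m
        change (MonoidAlgebra.mapRingHom (Multiplicative K) (c.ι.app j).hom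
          (MonoidAlgebra.mapRingHom (Multiplicative K) (F.map h).hom x)).coeff m =
            (MonoidAlgebra.mapRingHom (Multiplicative K) (c.ι.app i).hom x).coeff m
        simp only [MonoidAlgebra.coeff_mapRingHom]
        exact congrArg (fun k => k.hom (x.coeff m)) (c.w h) }

theorem exists_stage_zero [IsDirected J (· ≤ ·)] {c : Cocone F} (hc : IsColimit c) {j : J} (s : Finset (F.obj j))
    (hs : ∀ x ∈ s, c.ι.app j x = 0) : ∃ (k : J) (h : j ≤ k), ∀ x ∈ s, F.map (homOfLE h) x = 0 := by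
  classical
  haveI : Nonempty J := ⟨j⟩
  induction s using Finset.induction_on with
  | empty => exact ⟨j, le_rfl, by simp⟩
  | insert a s ha ih =>
    obtain ⟨k, hjk, hk⟩ := ih fun x hx => hs x (Finset.mem_insert_of_mem hx)
    obtain ⟨l, f, g, e⟩ := (Types.FilteredColimit.isColimit_eq_iff _
      (isColimitOfPreserves (forget CommRingCat.{u}) hc) (i := j) (j := j) (xi := a) (xj := 0)).mp
        (show c.ι.app j a = c.ι.app j 0 by rw [hs a (Finset.mem_insert_self a s), map_zero])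
    change F.map f a = F.map g 0 at e
    rw [map_zero] at e
    obtain ⟨m, hkm, hlm⟩ := exists_ge_ge k l
    refine ⟨m, hjk.trans hkm, fun x hx => ?_⟩
    rcases Finset.mem_insert.mp hx with rfl | hx
    · rw [Subsingleton.elim (homOfLE (hjk.trans hkm)) (f ≫ homOfLE hlm), F.map_comp]
      change F.map (homOfLE hlm) (F.map f x) = 0
      rw [e, map_zero]
    · rw [← homOfLE_comp hjk hkm, F.map_comp]
      change F.map (homOfLE hkm) (F.map (homOfLE hjk) x) = 0
      rw [hk x hx, map_zero]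

theorem nonempty_isColimit_gaC [IsDirected J (· ≤ ·)] [Nonempty J] {c : Cocone F} (hc : IsColimit c) :
    Nonempty (IsColimit (gaC F K c)) := by
  classical
  refine AffLim.nonempty_isColimit_of_elementwise _ (fun x => ?_) (fun j x y e => ?_)
  · change GA c.pt K at x
    induction x using MonoidAlgebra.induction_linear with
    | zero => exact ⟨Classical.arbitrary J, 0, map_zero _⟩
    | add a b ha hb =>
      obtain ⟨i, a, rfl⟩ := ha
      obtain ⟨j, b, rfl⟩ := hb
      obtain ⟨k, hik, hjk⟩ := exists_ge_ge i j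
      refine ⟨k, (gaF F K).map (homOfLE hik) a + (gaF F K).map (homOfLE hjk) b, ?_⟩
      refine (map_add _ _ _).trans (congrArg₂ (· + ·) ?_ ?_)
      · exact congrArg (fun f => f a) ((gaC F K c).w (homOfLE hik))
      · exact congrArg (fun f => f b) ((gaC F K c).w (homOfLE hjk))
    | single m r =>
      obtain ⟨j, y, hy⟩ := Types.jointly_surjective_of_isColimit (isColimitOfPreserves (forget CommRingCat.{u}) hc) r
      refine ⟨j, MonoidAlgebra.single m y, ?_⟩
      change MonoidAlgebra.mapRingHom (Multiplicative K) (c.ι.app j).hom (MonoidAlgebra.single m y) = _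
      rw [MonoidAlgebra.mapRingHom_single]
      exact congrArg _ hy
  · change GA (F.obj j) K at x
    change GA (F.obj j) K at y
    change MonoidAlgebra.mapRingHom (Multiplicative K) (c.ι.app j).hom x =
      MonoidAlgebra.mapRingHom (Multiplicative K) (c.ι.app j).hom y at e
    obtain ⟨k, h, hk⟩ := exists_stage_zero F hc ((x - y).coeff.support.image fun m => (x - y).coeff m) (fun a ha => by
      obtain ⟨m, -, rfl⟩ := Finset.mem_image.mp ha
      have h0 : MonoidAlgebra.mapRingHom (Multiplicative K) (c.ι.app j).hom (x - y) = 0 := by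
        rw [map_sub, e, sub_self]
      simpa using congrArg (fun z : GA c.pt K => z.coeff m) h0)
    refine ⟨k, h, sub_eq_zero.mp ?_⟩
    change MonoidAlgebra.mapRingHom (Multiplicative K) (F.map (homOfLE h)).hom x -
      MonoidAlgebra.mapRingHom (Multiplicative K) (F.map (homOfLE h)).hom y = 0
    rw [← map_sub]
    refine MonoidAlgebra.coeff_injective (Finsupp.ext fun m => ?_)
    rw [MonoidAlgebra.coeff_mapRingHom]
    by_cases hm : (x - y).coeff m = 0
    · simp only [Finsupp.mapRange_apply, hm, map_zero, MonoidAlgebra.coeff_zero, Finsupp.zero_apply]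
    · exact hk _ (Finset.mem_image.mpr ⟨m, Finsupp.mem_support_iff.mpr hm, rfl⟩)

end Colimit

variable {S : Scheme.{u}} {M : Type} [AddCommGroup M] {X Y : Over S}

theorem locallyOfFinitePresentation_of_representsPostcomp (N : AddSubmonoid M)
    (aX : Magnet.MonAct (Magnet.AMonS S M) X) (aY : Magnet.MonAct (Magnet.AMonS S M) Y) (f : X ⟶ Y)
    (hf : Magnet.MonAct.IsEquivariant aX aY f) [LocallyOfFinitePresentation f.left] {ZX ZY : Over S}
    (eX : (Magnet.attr aX N).RepresentableBy ZX) (eY : (Magnet.attr aY N).RepresentableBy ZY) (j : ZX ⟶ ZY)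
    (hj : ∀ (T : Over S) (z : T ⟶ ZX),
      eY.homEquiv (z ≫ j) = (Magnet.MonAct.eqvHom.postcomp (Magnet.subAct S M N) f hf).app (op T) (eX.homEquiv z)) :
    LocallyOfFinitePresentation j.left := by
  refine AffLim.locallyOfFinitePresentation_of_factor j.left fun U hU J _ _ _ F α c hc g hg => ?_
  let bb : ∀ i : J, Spec (F.obj i) ⟶ ZY.left := fun i => Spec.map (α.app i) ≫ hU.fromSpec
  let str : ∀ i : J, Spec (F.obj i) ⟶ S := fun i => bb i ≫ ZY.hom
  have hbb : ∀ {i k : J} (h : i ⟶ k), Spec.map (F.map h) ≫ bb i = bb k := fun {i k} h => by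
    simp only [bb]
    rw [← Spec.map_comp_assoc, ← α.naturality h]
    simp
  let cc : ∀ {i k : J} (_ : i ⟶ k), Over.mk (str k) ⟶ Over.mk (str i) := fun {i k} h =>
    Over.homMk (Spec.map (F.map h)) (by
      change Spec.map _ ≫ bb i ≫ ZY.hom = bb k ≫ ZY.hom
      rw [← Category.assoc, hbb])
  let str' : Spec c.pt ⟶ S := g ≫ ZX.hom
  have hcb : ∀ i, Spec.map (c.ι.app i) ≫ bb i = g ≫ j.left := fun i => by
    rw [hg i, Spec.map_comp, Category.assoc]
  let pp : ∀ i, Over.mk str' ⟶ Over.mk (str i) := fun i => Over.homMk (Spec.map (c.ι.app i)) (by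
    change Spec.map _ ≫ bb i ≫ ZY.hom = g ≫ ZX.hom
    rw [← Category.assoc, hcb, Category.assoc, Over.w j])
  let y : ∀ i, (Magnet.attr aY N).obj (op (Over.mk (str i))) := fun i =>
    eY.homEquiv (Over.homMk (bb i) : Over.mk (str i) ⟶ ZY)
  let x : (Magnet.attr aX N).obj (op (Over.mk str')) := eX.homEquiv (Over.homMk g : Over.mk str' ⟶ ZX)
  have hy : ∀ {i k : J} (h : i ⟶ k), (Magnet.AMonS S N ◁ cc h) ≫ (y i).1 = (y k).1 := fun {i k} h => by
    have : cc h ≫ (Over.homMk (bb i) : Over.mk (str i) ⟶ ZY) = Over.homMk (bb k) := Over.OverMorphism.ext (hbb h)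
    have h' := congrArg Subtype.val (congrArg eY.homEquiv this)
    rw [eY.homEquiv_comp] at h'
    exact h'
  have hxy : ∀ i, (Magnet.AMonS S N ◁ pp i) ≫ (y i).1 = x.1 ≫ f := fun i => by
    have : pp i ≫ (Over.homMk (bb i) : Over.mk (str i) ⟶ ZY) = (Over.homMk g : Over.mk str' ⟶ ZX) ≫ j :=
      Over.OverMorphism.ext (hcb i)
    have h' := congrArg Subtype.val (congrArg eY.homEquiv this)
    rw [eY.homEquiv_comp, hj] at h'
    exact h'
  -- the maps before equivariance
  obtain ⟨hc₁⟩ := nonempty_isColimit_gaC F ↥N hc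
  let D₁ : Jᵒᵖ ⥤ Scheme.{u} := (gaF F ↥N).op ⋙ Scheme.Spec
  have hl₁ : IsLimit (Scheme.Spec.mapCone (gaC F ↥N c).op) := isLimitOfPreserves Scheme.Spec hc₁.op
  let sN : ∀ i, Spec ((gaF F ↥N).obj i) ⟶ S := fun i =>
    Spec.map (CommRingCat.ofHom (MonoidAlgebra.singleOneRingHom : F.obj i →+* GA (F.obj i) ↥N)) ≫ str i
  let dN : ∀ {i k : J} (_ : i ⟶ k), Over.mk (sN k) ⟶ Over.mk (sN i) := fun {i k} h =>
    Over.homMk (Spec.map ((gaF F ↥N).map h)) (by
      change Spec.map _ ≫ Spec.map _ ≫ str i = Spec.map _ ≫ str k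
      rw [← Category.assoc, ← Spec.map_comp]
      refine (congrArg (fun k => Spec.map k ≫ str i) (map_ini _ (F.map h).hom)).trans ?_
      rw [Spec.map_comp, Category.assoc]
      exact congrArg _ (Over.w (cc h)))
  have natN : ∀ {i k : J} (h : i ⟶ k), dN h ≫ gE (F.obj i) (str i) N = gE (F.obj k) (str k) N ≫ (Magnet.AMonS S N ◁ cc h) :=
    fun {i k} h => gE_natural (cc h) (F.map h).hom rfl N (dN h) rfl
  have natNz : ∀ {i k : J} (h : i ⟶ k) {Z : Over S} (z : _ ⟶ Z), dN h ≫ gE (F.obj i) (str i) N ≫ z =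
      gE (F.obj k) (str k) N ≫ (Magnet.AMonS S N ◁ cc h) ≫ z := fun h Z z =>
    (Category.assoc _ _ _).symm.trans ((congrArg (· ≫ z) (natN h)).trans (Category.assoc _ _ _))
  let t₁ : D₁ ⟶ (Functor.const _).obj Y.left :=
    { app := fun i => (gE (F.obj i.unop) (str i.unop) N ≫ (y i.unop).1).left
      naturality := fun i k h => by
        have := congrArg CommaMorphism.left
          (natNz h.unop (y k.unop).1)
        rw [hy] at this
        exact this.trans (Category.comp_id _).symm }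
  let sN' : Spec (gaC F ↥N c).pt ⟶ S :=
    Spec.map (CommRingCat.ofHom (MonoidAlgebra.singleOneRingHom : c.pt →+* GA c.pt ↥N)) ≫ str'
  let pN : ∀ i, Over.mk sN' ⟶ Over.mk (sN i) := fun i =>
    Over.homMk (Spec.map ((gaC F ↥N c).ι.app i)) (by
      change Spec.map _ ≫ Spec.map _ ≫ str i = Spec.map _ ≫ str'
      rw [← Category.assoc, ← Spec.map_comp]
      refine (congrArg (fun k => Spec.map k ≫ str i) (map_ini _ (c.ι.app i).hom)).trans ?_
      rw [Spec.map_comp, Category.assoc]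
      exact congrArg _ (Over.w (pp i)))
  have natN' : ∀ i, pN i ≫ gE (F.obj i) (str i) N = gE c.pt str' N ≫ (Magnet.AMonS S N ◁ pp i) :=
    fun i => gE_natural (pp i) (c.ι.app i).hom rfl N (pN i) rfl
  have natNz' : ∀ i {Z : Over S} (z : _ ⟶ Z), pN i ≫ gE (F.obj i) (str i) N ≫ z =
      gE c.pt str' N ≫ (Magnet.AMonS S N ◁ pp i) ≫ z := fun i Z z =>
    (Category.assoc _ _ _).symm.trans ((congrArg (· ≫ z) (natN' i)).trans (Category.assoc _ _ _))
  have : ∀ {i k : Jᵒᵖ} (h : i ⟶ k), IsAffineHom (D₁.map h) := fun h =>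
    inferInstanceAs (IsAffineHom (Spec.map _))
  have : ∀ i : Jᵒᵖ, CompactSpace (D₁.obj i) := fun i => inferInstanceAs (CompactSpace (Spec _))
  have : ∀ i : Jᵒᵖ, QuasiSeparatedSpace (D₁.obj i) := fun i => inferInstanceAs (QuasiSeparatedSpace (Spec _))
  obtain ⟨i, g₀, hg₀, hg₀f⟩ := Scheme.exists_π_app_comp_eq_of_locallyOfFinitePresentation D₁ t₁ f.left _ hl₁
    (gE c.pt str' N ≫ x.1).left (by
      ext k : 2
      change (pN k.unop ≫ gE (F.obj k.unop) (str k.unop) N ≫ (y k.unop).1).left = ((gE c.pt str' N ≫ x.1) ≫ f).left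
      rw [natNz', hxy, Category.assoc])
  obtain ⟨i⟩ := i
  let g₁ : Magnet.AMonS S N ⊗ Over.mk (str i) ⟶ X := inv (gE (F.obj i) (str i) N) ≫ (Over.homMk g₀ (by
    rw [← Over.w f, ← Category.assoc, hg₀f]
    exact Over.w (gE (F.obj i) (str i) N ≫ (y i).1)) : Over.mk (sN i) ⟶ X)
  have hg₁f : g₁ ≫ f = (y i).1 := by
    rw [Category.assoc, IsIso.inv_comp_eq]
    exact Over.OverMorphism.ext hg₀f
  have hg₁x : (Magnet.AMonS S N ◁ pp i) ≫ g₁ = x.1 := by
    rw [← cancel_epi (gE c.pt str' N), ← natNz']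
    refine (congrArg (pN i ≫ ·) (IsIso.hom_inv_id_assoc (gE (F.obj i) (str i) N) _)).trans ?_
    exact Over.OverMorphism.ext hg₀
  -- equivariance at a later stage
  let ρ : ∀ k, Magnet.MonAct (Magnet.AMonS S M) (Magnet.AMonS S N ⊗ Over.mk (str k)) := fun k =>
    (Magnet.subAct S M N).prod (Magnet.MonAct.trivial (Magnet.AMonS S M) (Over.mk (str k)))
  obtain ⟨hc₂⟩ := nonempty_isColimit_gaC (gaF F ↥N) M hc₁
  let D₂ : Jᵒᵖ ⥤ Scheme.{u} := (gaF (gaF F ↥N) M).op ⋙ Scheme.Spec
  have hl₂ : IsLimit (Scheme.Spec.mapCone (gaC (gaF F ↥N) M (gaC F ↥N c)).op) :=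
    isLimitOfPreserves Scheme.Spec hc₂.op
  let sM : ∀ k, Spec ((gaF (gaF F ↥N) M).obj k) ⟶ S := fun k =>
    Spec.map (CommRingCat.ofHom (MonoidAlgebra.singleOneRingHom : GA (F.obj k) ↥N →+* GA (GA (F.obj k) ↥N) M)) ≫ sN k
  let dM : ∀ {i k : J} (_ : i ⟶ k), Over.mk (sM k) ⟶ Over.mk (sM i) := fun {i k} h =>
    Over.homMk (Spec.map ((gaF (gaF F ↥N) M).map h)) (by
      change Spec.map _ ≫ Spec.map _ ≫ sN i = Spec.map _ ≫ sN k
      rw [← Category.assoc, ← Spec.map_comp]
      refine (congrArg (fun k => Spec.map k ≫ sN i) (map_ini _ ((gaF F ↥N).map h).hom)).trans ?_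
      rw [Spec.map_comp, Category.assoc]
      exact congrArg _ (Over.w (dN h)))
  let sM' : Spec (gaC (gaF F ↥N) M (gaC F ↥N c)).pt ⟶ S :=
    Spec.map (CommRingCat.ofHom (MonoidAlgebra.singleOneRingHom : GA c.pt ↥N →+* GA (GA c.pt ↥N) M)) ≫ sN'
  let pM : ∀ i, Over.mk sM' ⟶ Over.mk (sM i) := fun i =>
    Over.homMk (Spec.map ((gaC (gaF F ↥N) M (gaC F ↥N c)).ι.app i)) (by
      change Spec.map _ ≫ Spec.map _ ≫ sN i = Spec.map _ ≫ sN'
      rw [← Category.assoc, ← Spec.map_comp]
      refine (congrArg (fun k => Spec.map k ≫ sN i) (map_ini _ ((gaC F ↥N c).ι.app i).hom)).trans ?_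
      rw [Spec.map_comp, Category.assoc]
      exact congrArg _ (Over.w (pN i)))
  let kk : ∀ k, Over.mk (sM k) ⟶ Magnet.AMonS S M ⊗ (Magnet.AMonS S N ⊗ Over.mk (str k)) := fun k =>
    gE (GA (F.obj k) ↥N) (sN k) M ≫ (Magnet.AMonS S M ◁ gE (F.obj k) (str k) N)
  let kk' : Over.mk sM' ⟶ Magnet.AMonS S M ⊗ (Magnet.AMonS S N ⊗ Over.mk str') :=
    gE (GA c.pt ↥N) sN' M ≫ (Magnet.AMonS S M ◁ gE c.pt str' N)
  have natM : ∀ {i k : J} (h : i ⟶ k),
      dM h ≫ kk i = kk k ≫ (Magnet.AMonS S M ◁ (Magnet.AMonS S N ◁ cc h)) := fun {i k} h => by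
    simp only [kk, Category.assoc]
    refine (Category.assoc _ _ _).symm.trans ((congrArg (· ≫ (Magnet.AMonS S M ◁ gE (F.obj i) (str i) N))
      (gE_natural (dN h) ((gaF F ↥N).map h).hom rfl M (dM h) rfl)).trans ?_)
    refine (Category.assoc _ _ _).trans ?_
    refine congrArg (gE (GA (F.obj k) ↥N) (sN k) M ≫ ·) ?_
    exact (MonoidalCategory.whiskerLeft_comp _ _ _).symm.trans
      ((congrArg (Magnet.AMonS S M ◁ ·) (natN h)).trans (MonoidalCategory.whiskerLeft_comp _ _ _))
  have natM' : ∀ i, pM i ≫ kk i = kk' ≫ (Magnet.AMonS S M ◁ (Magnet.AMonS S N ◁ pp i)) := fun i => by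
    simp only [kk, kk', Category.assoc]
    refine (Category.assoc _ _ _).symm.trans ((congrArg (· ≫ (Magnet.AMonS S M ◁ gE (F.obj i) (str i) N))
      (gE_natural (pN i) ((gaC F ↥N c).ι.app i).hom rfl M (pM i) rfl)).trans ?_)
    refine (Category.assoc _ _ _).trans ?_
    refine congrArg (gE (GA c.pt ↥N) sN' M ≫ ·) ?_
    exact (MonoidalCategory.whiskerLeft_comp _ _ _).symm.trans
      ((congrArg (Magnet.AMonS S M ◁ ·) (natN' i)).trans (MonoidalCategory.whiskerLeft_comp _ _ _))
  have natMz : ∀ {i k : J} (h : i ⟶ k) {Z : Over S} (z : _ ⟶ Z), dM h ≫ kk i ≫ z =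
      kk k ≫ (Magnet.AMonS S M ◁ (Magnet.AMonS S N ◁ cc h)) ≫ z := fun h Z z =>
    (Category.assoc _ _ _).symm.trans ((congrArg (· ≫ z) (natM h)).trans (Category.assoc _ _ _))
  have natMz' : ∀ i {Z : Over S} (z : _ ⟶ Z), pM i ≫ kk i ≫ z =
      kk' ≫ (Magnet.AMonS S M ◁ (Magnet.AMonS S N ◁ pp i)) ≫ z := fun i Z z =>
    (Category.assoc _ _ _).symm.trans ((congrArg (· ≫ z) (natM' i)).trans (Category.assoc _ _ _))
  have hρ : ∀ {i k : J} (h : i ⟶ k), (ρ k).act ≫ (Magnet.AMonS S N ◁ cc h) =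
      (Magnet.AMonS S M ◁ (Magnet.AMonS S N ◁ cc h)) ≫ (ρ i).act := fun h =>
    Magnet.MonAct.prod_trivial_act_whiskerLeft (Magnet.subAct S M N) (cc h)
  have hyρ : ∀ k, (ρ k).act ≫ (y k).1 = (Magnet.AMonS S M ◁ (y k).1) ≫ aY.act := fun k => (y k).2
  let t₂ : D₂ ⟶ (Functor.const _).obj Y.left :=
    { app := fun k => (kk k.unop ≫ (ρ k.unop).act ≫ (y k.unop).1).left
      naturality := fun i k h => by
        have := congrArg CommaMorphism.left
          (natMz h.unop ((ρ k.unop).act ≫ (y k.unop).1))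
        rw [← reassoc_of% (hρ h.unop), hy] at this
        exact this.trans (Category.comp_id _).symm }
  have : ∀ {i k : Jᵒᵖ} (h : i ⟶ k), IsAffineHom (D₂.map h) := fun h =>
    inferInstanceAs (IsAffineHom (Spec.map _))
  have : ∀ i : Jᵒᵖ, CompactSpace (D₂.obj i) := fun i => inferInstanceAs (CompactSpace (Spec _))
  obtain ⟨k, h, hk⟩ := Scheme.exists_hom_comp_eq_comp_of_locallyOfFiniteType D₂ t₂ f.left _ hl₂ (i := op i)
    (kk i ≫ (ρ i).act ≫ g₁).left (kk i ≫ (Magnet.AMonS S M ◁ g₁) ≫ aX.act).left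
    (by
      exact congrArg CommaMorphism.left ((congrArg (fun m => kk i ≫ (ρ i).act ≫ m) hg₁f.symm).trans
        ((Category.assoc _ _ _).trans (congrArg (kk i ≫ ·) (Category.assoc _ _ _))).symm))
    (by
      change (kk i ≫ (ρ i).act ≫ (y i).1).left = ((kk i ≫ (Magnet.AMonS S M ◁ g₁) ≫ aX.act) ≫ f).left
      refine congrArg CommaMorphism.left (Eq.trans ?_
        ((Category.assoc _ _ _).trans (congrArg (kk i ≫ ·) (Category.assoc _ _ _))).symm)
      refine congrArg (kk i ≫ ·) ?_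
      rw [show aX.act ≫ f = (Magnet.AMonS S M ◁ f) ≫ aY.act from hf,
        ← MonoidalCategory.whiskerLeft_comp_assoc, hg₁f, hyρ])
    (by
      change (pM i ≫ kk i ≫ (ρ i).act ≫ g₁).left = (pM i ≫ kk i ≫ (Magnet.AMonS S M ◁ g₁) ≫ aX.act).left
      rw [natMz' i, natMz' i, ← MonoidalCategory.whiskerLeft_comp_assoc, hg₁x,
        ← show _ = (Magnet.AMonS S M ◁ x.1) ≫ aX.act from x.2,
        ← Magnet.MonAct.prod_trivial_act_whiskerLeft_assoc (Magnet.subAct S M N) (pp i), hg₁x])
  obtain ⟨k⟩ := k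
  let hik : i ⟶ k := h.unop
  haveI : IsIso (kk k) := by
    haveI := isIso_gE (GA (F.obj k) ↥N) (sN k) M
    haveI := isIso_gE (F.obj k) (str k) N
    exact IsIso.comp_isIso' (isIso_gE (GA (F.obj k) ↥N) (sN k) M)
      (inferInstanceAs (IsIso ((MonoidalCategory.tensorLeft (Magnet.AMonS S M)).map (gE (F.obj k) (str k) N))))
  have hk' : dM hik ≫ kk i ≫ (ρ i).act ≫ g₁ = dM hik ≫ kk i ≫ (Magnet.AMonS S M ◁ g₁) ≫ aX.act :=
    Over.OverMorphism.ext hk
  let gk : (Magnet.attr aX N).obj (op (Over.mk (str k))) := ⟨(Magnet.AMonS S N ◁ cc hik) ≫ g₁, by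
    change (ρ k).act ≫ _ = _
    rw [reassoc_of% (hρ hik), ← cancel_epi (kk k), ← natMz hik, hk', natMz hik]
    simp only [g₁, MonoidalCategory.whiskerLeft_comp, Category.assoc]⟩
  let z := eX.homEquiv.symm gk
  refine ⟨k, z.left, ?_, ?_⟩
  · have : z ≫ j = (Over.homMk (bb k) : Over.mk (str k) ⟶ ZY) := eY.homEquiv.injective (by
      rw [hj, Equiv.apply_symm_apply]
      refine Subtype.ext ?_
      change ((Magnet.AMonS S N ◁ cc hik) ≫ g₁) ≫ f = (y k).1
      rw [Category.assoc, hg₁f, hy])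
    exact congrArg CommaMorphism.left this
  · have hpc : pp k ≫ cc hik = pp i := Over.OverMorphism.ext (by
      change Spec.map _ ≫ Spec.map _ = Spec.map _
      rw [← Spec.map_comp, c.w])
    have : pp k ≫ z = (Over.homMk g : Over.mk str' ⟶ ZX) := eX.homEquiv.injective (by
      rw [eX.homEquiv_comp, Equiv.apply_symm_apply]
      refine Subtype.ext ?_
      change (Magnet.AMonS S N ◁ pp k) ≫ (Magnet.AMonS S N ◁ cc hik) ≫ g₁ = x.1
      rw [← MonoidalCategory.whiskerLeft_comp_assoc, hpc, hg₁x])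
    exact congrArg CommaMorphism.left this

end

end Groth.Agent.MagnetSmooth
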