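import Mathlib
import Groth.Agent.MagnetSmooth.Face
import Groth.Agent.MagnetSmooth.Lfp

/-! Attractors of schemes locally of finite presentation are locally of finite presentation. -/

set_option autoImplicit false
set_option linter.style.haveILetI false
set_option maxHeartbeats 1000000
universe u

open CategoryTheory CategoryTheory.Limits MonoidalCategory CartesianMonoidalCategory MonObj AlgebraicGeometry Opposite

namespace Groth.Agent.MagnetSmooth

noncomputable section

variable {S : Scheme.{u}} {M : Type} [AddCommGroup M] {X : Over S}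

theorem locallyOfFinitePresentation_of_representsAttr (N : AddSubmonoid M) [LocallyOfFinitePresentation X.hom]
    (a : Magnet.MonAct (Magnet.AMonS S M) X) {ZX : Over S} (eX : (Magnet.attr a N).RepresentableBy ZX) :
    LocallyOfFinitePresentation ZX.hom := by
  let aY := Magnet.MonAct.trivial (Magnet.AMonS S M) (𝟙_ (Over S))
  have hs : ∀ T, Subsingleton ((Magnet.attr aY N).obj T) := fun T => ⟨fun p q => Subtype.ext (toUnit_unique _ _)⟩
  let eY : (Magnet.attr aY N).RepresentableBy (𝟙_ (Over S)) :=
    { homEquiv := fun {T} =>
        { toFun := fun _ => ⟨toUnit _, toUnit_unique _ _⟩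
          invFun := fun _ => toUnit T
          left_inv := fun _ => toUnit_unique _ _
          right_inv := fun _ => (hs _).elim _ _ }
      homEquiv_comp := fun _ _ => (hs _).elim _ _ }
  haveI : LocallyOfFinitePresentation (toUnit X).left := by
    rw [show (toUnit X).left = X.hom from (Category.comp_id _).symm.trans (Over.w (toUnit X))]
    infer_instance
  have := locallyOfFinitePresentation_of_representsPostcomp N a aY (toUnit X) (toUnit_unique _ _) eX eY (toUnit ZX)
    (fun T z => (hs _).elim _ _)
  rwa [show (toUnit ZX).left = ZX.hom from (Category.comp_id _).symm.trans (Over.w (toUnit ZX))] at this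

/-- The lifting property of the face projection. -/
theorem hasLift_attrFace {N F : AddSubmonoid M} (hF : Magnet.IsFace N F) [Smooth X.hom]
    (a : Magnet.MonAct (Magnet.AMonS S M) X) (A : Type u) [CommRing A] (I : Ideal A) (hI : I ^ 2 = ⊥)
    (str : Spec (CommRingCat.of A) ⟶ S)
    (x : (Magnet.attr a N).obj (op (Over.mk (Spec.map (CommRingCat.ofHom (Ideal.Quotient.mk I)) ≫ str))))
    (y : (Magnet.attr a F).obj (op (Over.mk str)))
    (h : (Magnet.attrFace a hF).app _ x = (Magnet.attr a F).map (Over.homMk (Spec.map (CommRingCat.ofHom (Ideal.Quotient.mk I))) rfl :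
        Over.mk (Spec.map (CommRingCat.ofHom (Ideal.Quotient.mk I)) ≫ str) ⟶ Over.mk str).op y) :
    ∃ l : (Magnet.attr a N).obj (op (Over.mk str)),
      (Magnet.attr a N).map (Over.homMk (Spec.map (CommRingCat.ofHom (Ideal.Quotient.mk I))) rfl :
        Over.mk (Spec.map (CommRingCat.ofHom (Ideal.Quotient.mk I)) ≫ str) ⟶ Over.mk str).op l = x ∧
      (Magnet.attrFace a hF).app _ l = y := by
  obtain ⟨l, h₁, h₂⟩ := exists_face_lift hF a A I hI str x y (congrArg Subtype.val h)
  exact ⟨l, Subtype.ext h₁, Subtype.ext h₂⟩

end

end Groth.Agent.MagnetSmooth
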